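import Groth.Agent.ConormalLib.Trans
import Groth.Prelude.Def_Mor2

/-! The conormal sheaf of a regular closed immersion is locally free. -/

set_option autoImplicit false
set_option backward.isDefEq.respectTransparency false
set_option backward.isDefEq.respectTransparency.types false
set_option linter.style.haveILetI false

universe u

open CategoryTheory CategoryTheory.Limits AlgebraicGeometry

namespace Groth.Agent.ObsLiftLib

variable {R : Type u} [CommRing R]

/-- The trivial relations. -/
def triv {n : ℕ} (f : Fin n → R) : Set (Fin n → R) :=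
  {v | ∃ i j : Fin n, v = Pi.single i (f j) - Pi.single j (f i)}

theorem isH1Regular_of_regular : ∀ {n : ℕ} (f : Fin n → R),
    (∀ j x, f j * x ∈ Ideal.span (f '' {i | i < j}) → x ∈ Ideal.span (f '' {i | i < j})) → CAlgX.IsH1Regular f
  | 0, f, _ => fun a _ => by rw [show a = 0 from Subsingleton.elim _ _]; exact zero_mem _
  | n + 1, f, hf => fun a ha => by
    let f' : Fin n → R := f ∘ Fin.castSucc
    have himg : ∀ j : Fin n, f '' {i | i < j.castSucc} = f' '' {i | i < j} := fun j => by
      ext z
      constructor
      · rintro ⟨i, hi, rfl⟩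
        exact ⟨i.castLT (lt_trans hi j.castSucc_lt_last), hi, by simp [f']⟩
      · rintro ⟨i, hi, rfl⟩
        exact ⟨i.castSucc, hi, rfl⟩
    have ih : CAlgX.IsH1Regular f' := isH1Regular_of_regular f' fun j x hx => by
      rw [← himg] at hx ⊢
      exact hf j.castSucc x hx
    have hlast : f '' {i | i < Fin.last n} = Set.range f' := by
      ext z
      constructor
      · rintro ⟨i, hi, rfl⟩
        exact ⟨i.castLT hi, by simp [f']⟩
      · rintro ⟨i, rfl⟩
        exact ⟨i.castSucc, i.castSucc_lt_last, rfl⟩
    have hsum := ha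
    rw [Fin.sum_univ_castSucc] at hsum
    have hmem : a (Fin.last n) ∈ Ideal.span (f '' {i | i < Fin.last n}) := hf _ _ (by
      rw [mul_comm, show a (Fin.last n) * f (Fin.last n) = -∑ i : Fin n, a i.castSucc * f i.castSucc from
        eq_neg_of_add_eq_zero_right hsum, hlast]
      exact neg_mem (Ideal.sum_mem _ fun i _ => Ideal.mul_mem_left _ _ (Ideal.subset_span ⟨i, rfl⟩)))
    rw [hlast] at hmem
    obtain ⟨b, hb⟩ := Ideal.mem_span_range_iff_exists_fun.1 hmem
    let a' : Fin n → R := fun i => a i.castSucc + b i * f (Fin.last n)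
    have ha' : ∑ i, a' i * f' i = 0 := by
      simp only [a', add_mul, Finset.sum_add_distrib]
      rw [show (∑ i, b i * f (Fin.last n) * f' i) = a (Fin.last n) * f (Fin.last n) by
        rw [← hb, Finset.sum_mul]; exact Finset.sum_congr rfl fun i _ => by ring]
      exact hsum
    let ext : (Fin n → R) →ₗ[R] (Fin (n + 1) → R) :=
      { toFun := fun v => Fin.snoc v 0
        map_add' := fun v w => by
          funext i
          induction i using Fin.lastCases <;> simp
        map_smul' := fun r v => by
          funext i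
          induction i using Fin.lastCases <;> simp }
    have hext : ∀ v ∈ Submodule.span R (triv f'), ext v ∈ Submodule.span R (triv f) := fun v hv => by
      refine Submodule.span_induction ?_ (by simp) (fun u w _ _ hu hw => by rw [map_add]; exact add_mem hu hw)
        (fun r u _ hu => by rw [map_smul]; exact Submodule.smul_mem _ _ hu) hv
      rintro _ ⟨i, j, rfl⟩
      refine Submodule.subset_span ⟨i.castSucc, j.castSucc, funext fun q => ?_⟩
      induction q using Fin.lastCases <;> simp [ext, f', Pi.single_apply, (Fin.castSucc_lt_last _).ne', Fin.castSucc_inj]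
    have hdec : a = ext a' + ∑ i, b i • (Pi.single (Fin.last n) (f i.castSucc) - Pi.single i.castSucc (f (Fin.last n))) := by
      funext q
      induction q using Fin.lastCases with
      | last =>
        simp only [Pi.add_apply, ext, LinearMap.coe_mk, AddHom.coe_mk, Fin.snoc_last, zero_add, Finset.sum_apply,
          Pi.smul_apply, Pi.sub_apply, Pi.single_eq_same, smul_eq_mul]
        rw [← hb]
        exact Finset.sum_congr rfl fun i _ => by
          rw [Pi.single_eq_of_ne (Fin.castSucc_lt_last i).ne', sub_zero]
          rfl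
      | cast q =>
        simp only [Pi.add_apply, ext, LinearMap.coe_mk, AddHom.coe_mk, Fin.snoc_castSucc, Finset.sum_apply,
          Pi.smul_apply, Pi.sub_apply, smul_eq_mul]
        rw [Finset.sum_eq_single q (fun i _ hi => by
          rw [Pi.single_eq_of_ne (Fin.castSucc_lt_last q).ne, Pi.single_eq_of_ne (by simpa using hi.symm), sub_zero,
            mul_zero]) (fun h => absurd (Finset.mem_univ q) h),
          Pi.single_eq_of_ne (Fin.castSucc_lt_last q).ne, Pi.single_eq_same]
        simp only [a']
        ring
    rw [hdec]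
    exact add_mem (hext _ (ih a' ha'))
      (Submodule.sum_mem _ fun i _ => Submodule.smul_mem _ _ (Submodule.subset_span ⟨_, _, rfl⟩))

theorem isH1Regular_of_isWeaklyRegular (rs : List R) (h : RingTheory.Sequence.IsWeaklyRegular R rs) :
    CAlgX.IsH1Regular rs.get := by
  refine isH1Regular_of_regular rs.get fun j x hx => ?_
  have himg : Ideal.span (rs.get '' {i | i < j}) = Ideal.ofList (rs.take j) := by
    congr 1
    ext z
    simp only [Set.mem_image, Set.mem_setOf_eq, List.mem_take_iff_getElem, List.get_eq_getElem]
    constructor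
    · rintro ⟨i, hi, rfl⟩
      exact ⟨i, by omega, rfl⟩
    · rintro ⟨i, hi, rfl⟩
      exact ⟨⟨i, by omega⟩, by simp [Fin.lt_def]; omega, rfl⟩
  rw [himg] at hx ⊢
  have hr := h.regular_mod_prev j j.2
  have he : (Ideal.ofList (rs.take j) • ⊤ : Submodule R R) = Ideal.ofList (rs.take j) := by simp
  have h0 : rs[(j : ℕ)] • (Submodule.Quotient.mk x : R ⧸ (Ideal.ofList (rs.take j) • ⊤ : Submodule R R)) = 0 := by
    rw [← Submodule.Quotient.mk_smul, Submodule.Quotient.mk_eq_zero, he]
    exact hx
  have h1 := hr (a₁ := Submodule.Quotient.mk x) (a₂ := 0) (h0.trans (smul_zero _).symm)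
  rwa [Submodule.Quotient.mk_eq_zero, he] at h1

/-- The conormal sheaf of a regular closed immersion is finite locally free. -/
theorem isFinLocFree_conormal {Z Y : Scheme.{u}} (i : Z ⟶ Y) (hi : Mor2.IsRegularClosedImmersion i) :
    FlatMod.IsFinLocFree (Omega.conormal i) := by
  haveI := hi.1
  have h1 : RegImm.IsRegularImmersion RegImm.Kind.h1 i := by
    refine ⟨inferInstance, fun z => ?_⟩
    obtain ⟨U, hU, hzU, rs, hrs, hker⟩ := hi.2 z
    exact ⟨⟨U, hU⟩, hzU, IsZariskiLocalAtTarget.restrict (P := @IsClosedImmersion) hi.1 U, rs,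
      isH1Regular_of_isWeaklyRegular rs hrs.toIsWeaklyRegular, (Scheme.Hom.ker_apply i ⟨U, hU⟩).symm.trans hker⟩
  intro z
  obtain ⟨U, T, hzU, -, n, f, hf, hker⟩ := ConormalLib.exists_tower_h1 i (𝟙 Y) h1 z (V := ⊤) trivial
  exact ⟨_, n, hzU, T.nonempty_free hf hker⟩

end Groth.Agent.ObsLiftLib
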