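import Groth.Agent.CohBase.Leray

/-! One-cocycles of a sheaf without first cohomology are coboundaries. -/

set_option autoImplicit false

universe u

open CategoryTheory CategoryTheory.Limits Opposite TopologicalSpace

namespace Groth.Agent.ObsLiftLib

open CohBase

variable {X : Type u} [TopologicalSpace X] {ι : Type u} (U : ι → Opens X)

theorem cexact_zero (hcov : ⊤ ≤ iSup U) (F : AbSh X) [Subsingleton (HU (⊤ : Opens X) F 1)] :
    CExact U F.obj 0 := by
  intro z hz
  have hS := injSeq_shortExact F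
  let S := injSeq F
  haveI : Subsingleton (HU (⊤ : Opens X) S.X₁ 1) := ‹_›
  obtain ⟨e, he⟩ := injective_cexact U S.X₂ 0 (ccMap U S.f.hom 1 z) (by
    rw [cdiff_ccMap]
    exact (congrArg _ hz).trans (map_zero _))
  obtain ⟨s, hs⟩ := aug_exact S.X₃ (fun _ => le_top) hcov (ccMap U S.g.hom 0 e) (by
    rw [cdiff_ccMap, he, ccMap_comp U hS])
  obtain ⟨r, hr⟩ := sections_surjective hS ⊤ s
  have hge : ccMap U S.g.hom 0 (e - aug U S.X₂.obj (fun _ => le_top) r) = 0 := by
    rw [map_sub, sub_eq_zero, ← hs]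
    funext i
    rw [← hr]
    exact res_map S.g.hom _ _
  obtain ⟨b, hb⟩ := ccMap_exact U hS _ hge
  refine ⟨b, ccMap_injective U hS _ ?_⟩
  rw [← cdiff_ccMap, hb, map_sub, he, cdiff_aug, sub_zero]

/-- The same, for a cocycle given on the pairwise intersections. -/
theorem exists_coboundary (hcov : ⊤ ≤ iSup U) (F : AbSh X) [Subsingleton (HU (⊤ : Opens X) F 1)]
    (c : ∀ a b, F.obj.obj (op (U a ⊓ U b)))
    (hc : ∀ a b d, res F.obj (le_inf (inf_le_left.trans inf_le_left) (inf_le_left.trans inf_le_right) :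
          U a ⊓ U b ⊓ U d ≤ U a ⊓ U b) (c a b) +
        res F.obj (le_inf (inf_le_left.trans inf_le_right) inf_le_right : U a ⊓ U b ⊓ U d ≤ U b ⊓ U d) (c b d) =
      res F.obj (le_inf (inf_le_left.trans inf_le_left) inf_le_right : U a ⊓ U b ⊓ U d ≤ U a ⊓ U d) (c a d)) :
    ∃ h : ∀ a, F.obj.obj (op (U a)), ∀ a b,
      res F.obj (inf_le_right : U a ⊓ U b ≤ U b) (h b) - res F.obj (inf_le_left : U a ⊓ U b ≤ U a) (h a) = c a b := by
  have hP : ∀ i : Fin 2 → ι, inter U i ≤ U (i 0) ⊓ U (i 1) := fun i => le_inf (inter_le U i 0) (inter_le U i 1)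
  let z : CC U F.obj 1 := fun i => res F.obj (hP i) (c (i 0) (i 1))
  obtain ⟨b, hb⟩ := cexact_zero U hcov F z (by
    funext i
    have hW : inter U i ≤ U (i 0) ⊓ U (i 1) ⊓ U (i 2) :=
      le_inf (le_inf (inter_le U i 0) (inter_le U i 1)) (inter_le U i 2)
    have h := congrArg (res F.obj hW) (hc (i 0) (i 1) (i 2))
    rw [map_add, res_res, res_res, res_res] at h
    rw [cdiff_apply, Fin.sum_univ_three]
    simp only [z, res_res, Fin.val_zero, Fin.val_one, Fin.val_two, pow_zero, pow_one, one_smul, neg_smul,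
      neg_one_sq, Pi.zero_apply]
    show res F.obj _ (c (i 1) (i 2)) + -res F.obj _ (c (i 0) (i 2)) + res F.obj _ (c (i 0) (i 1)) = 0
    rw [← h]
    abel)
  let h : ∀ a, F.obj.obj (op (U a)) := fun a => res F.obj (inter_const (U := U) a).le (b fun _ => a)
  refine ⟨h, fun a a' => ?_⟩
  have hW : U a ⊓ U a' ≤ inter U ![a, a'] := le_iInf fun t => by
    fin_cases t
    · exact inf_le_left
    · exact inf_le_right
  have hbb := congrArg (res F.obj hW) (congrFun hb ![a, a'])
  rw [cdiff_zero_apply, map_sub, res_res, res_res] at hbb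
  have e1 : ∀ (q : Fin 1 → ι) (d : ι) (hq : q = fun _ => d) (h1 : U a ⊓ U a' ≤ inter U q) (h2 : U a ⊓ U a' ≤ U d),
      res F.obj h1 (b q) = res F.obj h2 (h d) := by
    intro q d hq h1 h2
    subst hq
    show _ = res F.obj h2 (res F.obj _ _)
    rw [res_res]
  rw [e1 _ a' (by funext t; fin_cases t; rfl) _ inf_le_right, e1 _ a (by funext t; fin_cases t; rfl) _ inf_le_left] at hbb
  refine hbb.trans ?_
  show res F.obj hW (res F.obj _ (c a a')) = c a a'
  rw [res_res, res_self]

end Groth.Agent.ObsLiftLib
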