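import Groth.Agent.ObsLiftLib.Glue
import Groth.Agent.ObsLiftLib.CechOne
import Groth.Prelude.Def_Coh

/-! Without first cohomology of the normal sheaf, local lifts give a global lift. -/

set_option autoImplicit false
set_option backward.isDefEq.respectTransparency false
set_option backward.isDefEq.respectTransparency.types false
set_option linter.style.haveILetI false

universe u

open CategoryTheory CategoryTheory.Limits AlgebraicGeometry TopologicalSpace Opposite ArtFun ArtFun.Art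

noncomputable section

namespace Groth.Agent.ObsLiftLib

open LocHilbGlueLib TanHilbLib CohBase

variable {k : Type u} [Field k] {Y Z : Scheme.{u}} {y : Y ⟶ specPt k} {i : Z ⟶ Y} [IsClosedImmersion i]
  {A' A : Art k k} {p : A' ⟶ A} {e : Small p} {s : (localHilb Y y i.ker).obj A}
  {ι : Type u} (V : ι → Y.affineOpens) (L : ∀ j, Lift y i e s (V j))

/-- Restriction of sections of the normal sheaf. -/
abbrev rN {W W' : Z.Opens} (h : W' ≤ W) (x : Γ(normal i, W)) : Γ(normal i, W') :=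
  (normal i).presheaf.map (homOfLE h).op x

theorem rN_rN {W W' W'' : Z.Opens} (h : W' ≤ W) (h' : W'' ≤ W') (x : Γ(normal i, W)) :
    rN h' (rN h x) = rN (h'.trans h) x := by
  show ((normal i).presheaf.map _ ≫ (normal i).presheaf.map _) x = _
  rw [← Functor.map_comp]
  rfl

theorem rN_add {W W' : Z.Opens} (h : W' ≤ W) (x x' : Γ(normal i, W)) : rN h (x + x') = rN h x + rN h x' :=
  map_add ((normal i).presheaf.map (homOfLE h).op).hom x x'

theorem rN_sub {W W' : Z.Opens} (h : W' ≤ W) (x x' : Γ(normal i, W)) : rN h (x - x') = rN h x - rN h x' :=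
  map_sub ((normal i).presheaf.map (homOfLE h).op).hom x x'

/-- The affine opens inside an open. -/
abbrev Below (O : Y.Opens) : Type u := {U : Y.affineOpens // U.1 ≤ O}

theorem le_iSup_below (O : Y.Opens) : i ⁻¹ᵁ O ≤ ⨆ U : Below O, i ⁻¹ᵁ U.1.1 := fun z hz => by
  obtain ⟨U, hU, hzU, hle⟩ := exists_isAffineOpen_mem_and_subset (show i z ∈ O from hz)
  exact Opens.mem_iSup.mpr ⟨⟨⟨U, hU⟩, hle⟩, hzU⟩

theorem rN_ext {O : Y.Opens} {W : Z.Opens} (hW : W ≤ i ⁻¹ᵁ O) {x x' : Γ(normal i, W)}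
    (h : ∀ U : Below O, rN (inf_le_left : W ⊓ i ⁻¹ᵁ U.1.1 ≤ W) x = rN inf_le_left x') : x = x' :=
  TopCat.Sheaf.eq_of_locally_eq' ⟨(normal i).presheaf, (normal i).isSheaf⟩ (fun U : Below O => W ⊓ i ⁻¹ᵁ U.1.1) W
    (fun U => homOfLE inf_le_left) (fun z hz => by
      obtain ⟨U, hU⟩ := Opens.mem_iSup.mp (le_iSup_below O (hW hz))
      exact Opens.mem_iSup.mpr ⟨U, hz, hU⟩) x x' h

theorem exists_pair (a b : ι) : ∃ c : Γ(normal i, i ⁻¹ᵁ ((V a).1 ⊓ (V b).1)),
    ∀ (U : Y.affineOpens) (ha : U.1 ≤ (V a).1) (hb : U.1 ≤ (V b).1),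
      rN (i.preimage_mono (le_inf ha hb)) c = diff ((L a).res ha) ((L b).res hb) := by
  let F : TopCat.Sheaf _ _ := ⟨(normal i).presheaf, (normal i).isSheaf⟩
  obtain ⟨c, hc, -⟩ := TopCat.Sheaf.existsUnique_gluing' F
    (fun U : Below ((V a).1 ⊓ (V b).1) => i ⁻¹ᵁ U.1.1) (i ⁻¹ᵁ ((V a).1 ⊓ (V b).1))
    (fun U => homOfLE (i.preimage_mono U.2)) (le_iSup_below _)
    (fun U => diff ((L a).res (U.2.trans inf_le_left)) ((L b).res (U.2.trans inf_le_right))) fun U U' => by
      refine rN_ext (O := U.1.1 ⊓ U'.1.1) (W := i ⁻¹ᵁ U.1.1 ⊓ i ⁻¹ᵁ U'.1.1) le_rfl fun W => ?_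
      have hz : ∀ (T : Below ((V a).1 ⊓ (V b).1)) (hT : W.1.1 ≤ T.1.1),
          rN (i.preimage_mono hT) (diff ((L a).res (T.2.trans inf_le_left)) ((L b).res (T.2.trans inf_le_right))) =
            diff ((L a).res ((hT.trans T.2).trans inf_le_left)) ((L b).res ((hT.trans T.2).trans inf_le_right)) :=
        fun T hT => (diff_res _ _ hT).trans (by rw [Lift.res_res, Lift.res_res])
      show rN _ (rN _ _) = rN _ (rN _ _)
      rw [rN_rN, rN_rN, ← rN_rN (i.preimage_mono (W.2.trans inf_le_left)) inf_le_right,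
        ← rN_rN (i.preimage_mono (W.2.trans inf_le_right)) inf_le_right, hz U (W.2.trans inf_le_left),
        hz U' (W.2.trans inf_le_right)]
  exact ⟨c, fun U ha hb => hc ⟨U, le_inf ha hb⟩⟩

/-- Local lifts and vanishing of the first cohomology of the normal sheaf give a lift. -/
theorem exists_lift_of_cover (hV : ∀ z : Y, ∃ j, z ∈ (V j).1) (L : ∀ j, Lift y i e s (V j))
    [Subsingleton (Coh.HH Z (normal i) 1)] :
    ∃ s' : (localHilb Y y i.ker).obj A', (localHilb Y y i.ker).map p s' = s := by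
  choose c hc using fun a b => exists_pair V L a b
  let F : AbSh Z := Coh.toAb (normal i)
  let W : ι → Opens Z := fun j => i ⁻¹ᵁ (V j).1
  haveI : Subsingleton (HU (⊤ : Opens Z) F 1) := (HEquiv F 1).symm.toEquiv.subsingleton
  obtain ⟨h, hh⟩ := exists_coboundary W
    (fun z _ => by
      obtain ⟨j, hj⟩ := hV (i z)
      exact Opens.mem_iSup.mpr ⟨j, hj⟩) F c (fun a b d => by
    refine rN_ext (O := (V a).1 ⊓ (V b).1 ⊓ (V d).1) le_rfl fun U => ?_
    have ha : U.1.1 ≤ (V a).1 := U.2.trans (inf_le_left.trans inf_le_left)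
    have hb : U.1.1 ≤ (V b).1 := U.2.trans (inf_le_left.trans inf_le_right)
    have hd : U.1.1 ≤ (V d).1 := U.2.trans inf_le_right
    show rN _ (rN _ (c a b) + rN _ (c b d)) = rN _ (rN _ (c a d))
    rw [rN_add, rN_rN, rN_rN, rN_rN, ← rN_rN (i.preimage_mono (le_inf ha hb)) inf_le_right,
      ← rN_rN (i.preimage_mono (le_inf hb hd)) inf_le_right, ← rN_rN (i.preimage_mono (le_inf ha hd)) inf_le_right,
      hc a b U.1 ha hb, hc b d U.1 hb hd, hc a d U.1 ha hd, ← diff_add ((L a).res ha) ((L b).res hb) ((L d).res hd), rN_add])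
  refine exists_of_compat V hV (fun j => (L j).act (-(h j : Γ(normal i, i ⁻¹ᵁ (V j).1)))) fun a b U ha hb => ?_
  rw [act_res, act_res]
  have hab : rN (i.preimage_mono hb) (h b : Γ(normal i, i ⁻¹ᵁ (V b).1)) -
      rN (i.preimage_mono ha) (h a : Γ(normal i, i ⁻¹ᵁ (V a).1)) = diff ((L a).res ha) ((L b).res hb) := by
    rw [← hc a b U ha hb, ← hh a b]
    show _ = rN _ (rN _ _ - rN _ _)
    rw [rN_sub, rN_rN, rN_rN]
  refine eq_of_diff_eq (L := (L a).res ha) ?_
  rw [diff_act, ← diff_add ((L a).res ha) ((L b).res hb), diff_act, map_neg, map_neg]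
  show -rN _ _ = _ + -rN _ _
  rw [← hab]
  abel

end Groth.Agent.ObsLiftLib
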