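import Groth.Agent.ObsLiftLib.Local
import Groth.Agent.DeformLib.NilpLocal
import Groth.Prelude.Def_Mor2

/-! Complete intersections have local lifts. -/

set_option autoImplicit false
set_option backward.isDefEq.respectTransparency false
set_option backward.isDefEq.respectTransparency.types false
set_option linter.style.haveILetI false

universe u

open CategoryTheory CategoryTheory.Limits AlgebraicGeometry ArtFun ArtFun.Art IsLocalRing
open scoped TensorProduct

noncomputable section

namespace Groth.Agent.ObsLiftLib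

open LocHilbGlueLib TanHilbLib

section flatness

variable {B S : Type u} [CommRing B] [IsLocalRing B] [CommRing S] [Algebra B S]

theorem mem_smul_top_iff (K : Ideal S) (x : S) :
    Ideal.Quotient.mk K x ∈ (maximalIdeal B • ⊤ : Submodule B (S ⧸ K)) ↔
      x ∈ K ⊔ (maximalIdeal B).map (algebraMap B S) := by
  rw [Ideal.smul_top_eq_map, Submodule.restrictScalars_mem, IsScalarTower.algebraMap_eq B S (S ⧸ K), ← Ideal.map_map,
    Ideal.Quotient.algebraMap_eq, Ideal.mem_quotient_iff_mem_sup, sup_comm]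

/-- A sequence regular on the closed fibre cuts out a flat algebra. -/
theorem flat_quot_ofList (hB : IsNilpotent (maximalIdeal B)) [Module.Flat B S] (gs : List S)
    (h : ∀ (n : ℕ) (hn : n < gs.length) (x : S),
      gs[n] * x ∈ Ideal.ofList (gs.take n) ⊔ (maximalIdeal B).map (algebraMap B S) →
        x ∈ Ideal.ofList (gs.take n) ⊔ (maximalIdeal B).map (algebraMap B S)) :
    Module.Flat B (S ⧸ Ideal.ofList gs) := by
  suffices H : ∀ n, n ≤ gs.length → Module.Flat B (S ⧸ Ideal.ofList (gs.take n)) by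
    have := H gs.length le_rfl
    rwa [List.take_length] at this
  intro n
  induction n with
  | zero =>
    intro _
    rw [List.take_zero, Ideal.ofList_nil]
    exact Module.Flat.of_linearEquiv ((AlgEquiv.quotientBot B S).toLinearEquiv)
  | succ n ih =>
    intro hn
    haveI := ih (Nat.le_of_succ_le hn)
    let K : Ideal S := Ideal.ofList (gs.take n)
    let g : S ⧸ K := Ideal.Quotient.mk K (gs[n]'hn)
    let u : (S ⧸ K) →ₗ[B] S ⧸ K := (LinearMap.mulLeft (S ⧸ K) g).restrictScalars B
    have hflat := (DeformLib.injective_flat_of_nilpotent hB u fun z hz => by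
      obtain ⟨x, rfl⟩ := Ideal.Quotient.mk_surjective z
      rw [show u (Ideal.Quotient.mk K x) = Ideal.Quotient.mk K (gs[n]'hn * x) from (map_mul (Ideal.Quotient.mk K) (gs[n]'hn) x).symm,
        mem_smul_top_iff] at hz
      exact (mem_smul_top_iff K x).2 (h n hn x hz)).2
    have e : LinearMap.range u = ((Ideal.ofList (gs.take (n + 1))).map (Ideal.Quotient.mk K)).restrictScalars B := by
      ext z
      rw [Submodule.restrictScalars_mem, List.take_succ_eq_append_getElem hn, Ideal.ofList_append,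
        Ideal.ofList_singleton, Ideal.map_sup, Ideal.map_quotient_self, bot_sup_eq, Ideal.map_span,
        Set.image_singleton, Ideal.mem_span_singleton']
      exact ⟨fun ⟨w, hw⟩ => ⟨w, (mul_comm w g).trans hw⟩, fun ⟨w, hw⟩ => ⟨w, (mul_comm g w).trans hw⟩⟩
    haveI := hflat
    have hle : K ≤ Ideal.ofList (gs.take (n + 1)) := by
      rw [List.take_succ_eq_append_getElem hn, Ideal.ofList_append]
      exact le_sup_left
    exact Module.Flat.of_linearEquiv
      (((DoubleQuot.quotQuotEquivQuotOfLEₐ B hle).toLinearEquiv.symm.trans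
        (Submodule.Quotient.restrictScalarsEquiv B
          ((Ideal.ofList (gs.take (n + 1))).map (Ideal.Quotient.mk K))).symm).trans
        (Submodule.quotEquivOfEq _ _ e.symm))

end flatness

variable {k : Type u} [Field k] {R : Type u} [CommRing R] [Algebra k R] {A' A : Art k k} {p : A' ⟶ A}

theorem map_maximalIdeal_eq (C : Art k k) :
    (maximalIdeal C).map (algebraMap C (C ⊗[k] R)) = RingHom.ker (l0 R C) := by
  ext x
  rw [← Submodule.restrictScalars_mem C, ← Ideal.smul_top_eq_map, RingHom.mem_ker]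
  exact ⟨l0_eq_zero_of_mem C, mem_smul_of_l0_eq_zero⟩

theorem isNilpotent_ker_l0 (C : Art k k) : IsNilpotent (RingHom.ker (l0 R C)) := by
  rw [← map_maximalIdeal_eq]
  obtain ⟨N, hN⟩ := ArtFunLib.exists_pow_eq_bot C
  exact ⟨N, by rw [← Ideal.map_pow, hN, Ideal.map_bot]; rfl⟩

theorem mem_sup_ker_iff (C : Art k k) (gs : List (C ⊗[k] R)) (x : C ⊗[k] R) :
    x ∈ Ideal.ofList gs ⊔ (maximalIdeal C).map (algebraMap C (C ⊗[k] R)) ↔
      l0 R C x ∈ Ideal.ofList (gs.map (l0 R C)) := by
  rw [map_maximalIdeal_eq]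
  show x ∈ Ideal.ofList gs ⊔ RingHom.ker (l0 R C).toRingHom ↔ _
  rw [← Ideal.comap_map_of_surjective' (l0 R C).toRingHom (l0_surjective C), Ideal.map_ofList]
  rfl

theorem exists_lifts {C : Art k k} {K : Ideal (C ⊗[k] R)} :
    ∀ rs : List R, (∀ r ∈ rs, r ∈ K.map (l0 R C)) → ∃ gs : List (C ⊗[k] R), gs.map (l0 R C) = rs ∧ ∀ g ∈ gs, g ∈ K
  | [], _ => ⟨[], rfl, by simp⟩
  | r :: rs, h => by
    obtain ⟨gs, e, hgs⟩ := exists_lifts rs fun r' hr' => h r' (List.mem_cons_of_mem _ hr')
    obtain ⟨g, hg, rfl⟩ := (Ideal.mem_map_iff_of_surjective (l0 R C) (l0_surjective C)).1 (h r List.mem_cons_self)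
    exact ⟨g :: gs, by rw [List.map_cons, e], List.forall_mem_cons.2 ⟨hg, hgs⟩⟩

variable (e : Small p) {J : Ideal (A ⊗[k] R)}

/-- A flat deformation of a complete intersection lifts along a small extension. -/
theorem exists_isLift_of_regular (hJ : Module.Flat A ((A ⊗[k] R) ⧸ J)) (rs : List R)
    (hreg : RingTheory.Sequence.IsWeaklyRegular R rs) (hrs : J.map (l0 R A) = Ideal.ofList rs) :
    ∃ J', IsLift e J J' := by
  obtain ⟨gs, hgs, hgJ⟩ := exists_lifts (K := J) rs fun r hr => by
    rw [hrs]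
    exact Ideal.subset_span hr
  have hJgs : J = Ideal.ofList gs := by
    refine le_antisymm (DeformLib.le_of_le_sup_nilpotent (isNilpotent_ker_l0 A) fun x hx => ?_)
      (Ideal.span_le.2 hgJ)
    have hx0 : l0 R A x ∈ Ideal.map (l0 R A).toRingHom (Ideal.ofList gs) := by
      rw [Ideal.map_ofList]
      show l0 R A x ∈ Ideal.ofList (gs.map (l0 R A))
      rw [hgs, ← hrs]
      exact Ideal.mem_map_of_mem _ hx
    obtain ⟨v, hv, he⟩ := (Ideal.mem_map_iff_of_surjective (l0 R A).toRingHom (l0_surjective A)).1 hx0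
    rw [← sub_add_cancel x v, add_comm]
    refine Submodule.add_mem_sup hv ?_
    haveI : Module.Flat A ((A ⊗[k] R) ⧸ J.restrictScalars A) := hJ
    have hm := HilbObsLib.mem_smul_of_flat (J.restrictScalars A) (maximalIdeal A)
      (x := x - v) (sub_mem hx (Ideal.span_le.2 hgJ hv))
      (mem_smul_of_l0_eq_zero (by rw [map_sub]; exact sub_eq_zero.2 he.symm))
    rw [← map_maximalIdeal_eq]
    refine Submodule.smul_induction_on hm (fun b hb w hw => ?_) (fun a b ha hb => add_mem ha hb)
    rw [Algebra.smul_def]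
    exact Ideal.mul_mem_mul (Ideal.mem_map_of_mem _ hb) hw
  choose f hf using fun g : A ⊗[k] R => tmap_surjective p.toAlgHom e.surj g
  let gs' := gs.map f
  have hl : gs'.map (l0 R A') = rs := by
    rw [← hgs, List.map_map]
    refine List.map_congr_left fun g _ => ?_
    show l0 R A' (f g) = l0 R A g
    rw [← l0_tmap p (f g), hf]
  refine ⟨Ideal.ofList gs', isLift_of_flat ?_ (flat_quot_ofList (ArtFunLib.isNilpotent_maximalIdeal A') gs'
    fun n hn x hx => ?_)⟩
  · rw [hJgs]
    show Ideal.map (tmap R p.toAlgHom).toRingHom _ = _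
    rw [Ideal.map_ofList, List.map_map]
    congr 1
    exact (List.map_congr_left fun g _ => hf g).trans (List.map_id gs)
  · rw [mem_sup_ker_iff, map_mul, List.map_take, hl] at hx
    rw [mem_sup_ker_iff, List.map_take, hl]
    have hn' : n < rs.length := by rw [← hl, List.length_map]; exact hn
    have hg : l0 R A' gs'[n] = rs[n] := by simp [← hl]
    rw [hg] at hx
    have hr := hreg.regular_mod_prev n hn'
    have he : (Ideal.ofList (rs.take n) • ⊤ : Submodule R R) = Ideal.ofList (rs.take n) := by simp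
    have h0 : rs[n] • (Submodule.Quotient.mk (l0 R A' x) : R ⧸ (Ideal.ofList (rs.take n) • ⊤ : Submodule R R)) = 0 := by
      rw [← Submodule.Quotient.mk_smul, Submodule.Quotient.mk_eq_zero, he]
      exact hx
    have h1 := hr (a₁ := Submodule.Quotient.mk (l0 R A' x)) (a₂ := 0) (h0.trans (smul_zero _).symm)
    rwa [Submodule.Quotient.mk_eq_zero, he] at h1

variable {Y Z : Scheme.{u}} {y : Y ⟶ specPt k} {i : Z ⟶ Y} [IsClosedImmersion i]
  (s : (localHilb Y y i.ker).obj A)

/-- A lift over an affine open missing the subscheme. -/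
theorem nonempty_lift_of_disjoint (V : Y.affineOpens) (h : RingHom.ker (i.app V.1).hom = ⊤) :
    Nonempty (Lift y i e s V) := by
  letI := algV y V.1
  have h0 := TanHilbLib.map_l0_eq y i A s V.2
  rw [h] at h0
  refine ⟨⟨⊤, ?_, fun c _ => h0 ▸ Submodule.mem_top⟩⟩
  rw [Ideal.map_top]
  refine (top_le_iff.1 (DeformLib.le_of_le_sup_nilpotent (isNilpotent_ker_l0 A) (I := ⊤) fun x _ => ?_)).symm
  obtain ⟨v, hv, he⟩ := (Ideal.mem_map_iff_of_surjective (l0 Γ(Y, V.1) A) (l0_surjective A)).1
    (h0.ge (Submodule.mem_top : l0 Γ(Y, V.1) A x ∈ ⊤))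
  rw [← sub_add_cancel x v, add_comm, Ideal.mul_top]
  exact Submodule.add_mem_sup hv (RingHom.mem_ker.2 (by rw [map_sub, he, sub_self]))

/-- Local complete intersections have local lifts. -/
theorem exists_cover_of_lci (hreg : Mor2.IsRegularClosedImmersion i) :
    ∀ z : Y, ∃ V : Y.affineOpens, z ∈ V.1 ∧ Nonempty (Lift y i e s V) := by
  intro z
  by_cases hz : z ∈ Set.range i
  · obtain ⟨w, rfl⟩ := hz
    obtain ⟨U, hU, hwU, rs, hrs, hker⟩ := hreg.2 w
    letI := algV y U
    obtain ⟨J', hJ'⟩ := exists_isLift_of_regular e ((flatOver_iff y A s.1).1 s.2.1 U hU) rs hrs.toIsWeaklyRegular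
      ((TanHilbLib.map_l0_eq y i A s hU).trans ((Scheme.Hom.ker_apply i ⟨U, hU⟩).symm.trans hker))
    exact ⟨⟨U, hU⟩, hwU, ⟨⟨J', hJ'⟩⟩⟩
  · obtain ⟨U, hU, hzU, hle⟩ := exists_isAffineOpen_mem_and_subset
      (U := ⟨(Set.range i)ᶜ, i.isClosedEmbedding.isClosed_range.isOpen_compl⟩) (show z ∈ _ from hz)
    refine ⟨⟨U, hU⟩, hzU, nonempty_lift_of_disjoint e s ⟨U, hU⟩ ?_⟩
    refine eq_top_iff.2 fun r _ => RingHom.mem_ker.2 ?_
    haveI : Subsingleton Γ(Z, i ⁻¹ᵁ U) := CommRingCat.subsingleton_of_isTerminal (Z.sheaf.isTerminalOfEqEmpty (by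
      ext w
      exact ⟨fun hw => (hle hw ⟨w, rfl⟩).elim, fun hw => hw.elim⟩))
    exact Subsingleton.elim _ _

end Groth.Agent.ObsLiftLib
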