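import Groth.Agent.TanHilbLib.Alg
import Groth.Agent.ArtFunLib.Basic

/-! Lifts of a flat ideal along a small extension: the algebra. -/

set_option autoImplicit false
set_option backward.isDefEq.respectTransparency false
set_option backward.isDefEq.respectTransparency.types false
set_option linter.style.haveILetI false

universe u

open CategoryTheory ArtFun ArtFun.Art IsLocalRing
open scoped TensorProduct

noncomputable section

namespace Groth.Agent.ObsLiftLib

open LocHilbGlueLib TanHilbLib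

variable {k : Type u} [Field k]

/-- A small extension with a chosen generator of its kernel. -/
structure Small {A' A : Art k k} (p : A' ⟶ A) : Type u where
  t : A'
  surj : Function.Surjective p
  ne : t ≠ 0
  killed : ∀ m ∈ maximalIdeal A', m * t = 0
  ker : RingHom.ker p.toAlgHom = Ideal.span {t}

theorem exists_small {A' A : Art k k} {p : A' ⟶ A} (hp : IsSmallExt p) : Nonempty (Small p) := by
  obtain ⟨h, t, h1, h2, h3⟩ := (ArtFunLib.isSmallExt_iff p).1 hp
  exact ⟨⟨t, h, h1, h2, h3⟩⟩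

variable {R : Type u} [CommRing R] [Algebra k R] {A' A : Art k k} {p : A' ⟶ A} (e : Small p)

theorem Small.apply_t : p e.t = 0 := by
  show e.t ∈ RingHom.ker p.toAlgHom
  rw [e.ker]
  exact Ideal.mem_span_singleton_self _

theorem Small.t_mem : e.t ∈ maximalIdeal A' := ArtFunLib.ker_le_maximalIdeal p e.apply_t

theorem Small.res_t : A'.res e.t = 0 := (mem_maximalIdeal_iff A' e.t).1 e.t_mem

variable (R) in
/-- The element `t ⊗ c`. -/
abbrev Small.tc (c : R) : A' ⊗[k] R := e.t ⊗ₜ c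

theorem Small.l0_tc (c : R) : l0 R A' (e.tc R c) = 0 := by
  rw [l0_tmul, e.res_t, zero_smul]

theorem Small.tmap_tc (c : R) : tmap R p.toAlgHom (e.tc R c) = 0 := by
  rw [tmap_tmul, show p.toAlgHom e.t = 0 from e.apply_t, TensorProduct.zero_tmul]

theorem Small.t_mul (a : A') : e.t * a = A'.res a • e.t := by
  rw [mul_comm, ArtFunLib.exists_lift_res (A := A) (f := p) A' a e.t (algebraMap k A' (A'.res a)) e.killed
    (by simp), ← Algebra.smul_def]

theorem Small.t_smul (w : A' ⊗[k] R) : e.t • w = e.tc R (l0 R A' w) := by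
  induction w using TensorProduct.induction_on with
  | zero => simp [Small.tc]
  | tmul a r =>
    rw [TensorProduct.smul_tmul', smul_eq_mul, e.t_mul, l0_tmul, Small.tc, TensorProduct.smul_tmul]
  | add a b ha hb => rw [smul_add, ha, hb, map_add, Small.tc, Small.tc, Small.tc, TensorProduct.tmul_add]

theorem Small.mul_tc (w : A' ⊗[k] R) (c : R) : w * e.tc R c = e.tc R (l0 R A' w * c) := by
  rw [Small.tc, show e.t ⊗ₜ[k] c = e.t • ((1 : A') ⊗ₜ[k] c) by rw [TensorProduct.smul_tmul', smul_eq_mul, mul_one],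
    mul_smul_comm, e.t_smul, map_mul, l0_tmul, map_one, one_smul]

theorem Small.exists_tc {x : A' ⊗[k] R} (hx : tmap R p.toAlgHom x = 0) : ∃ c, x = e.tc R c := by
  have h := mem_smul_of_tmap_eq_zero p.toAlgHom e.surj hx
  rw [show RingHom.ker p.toAlgHom = Ideal.span {e.t} from e.ker] at h
  refine Submodule.smul_induction_on h (fun b hb y _ => ?_) (fun a b ha hb => ?_)
  · obtain ⟨c, rfl⟩ := Ideal.mem_span_singleton'.1 hb
    exact ⟨l0 R A' (c • y), by rw [← e.t_smul, smul_smul, mul_comm]⟩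
  · obtain ⟨c, rfl⟩ := ha
    obtain ⟨d, rfl⟩ := hb
    exact ⟨c + d, (TensorProduct.tmul_add _ _ _).symm⟩

theorem mem_smul_of_l0_eq_zero {w : A' ⊗[k] R} (h : l0 R A' w = 0) :
    w ∈ (maximalIdeal A' • ⊤ : Submodule A' (A' ⊗[k] R)) := by
  have h' : tmap R A'.res w = 0 :=
    (Algebra.TensorProduct.lid k R).injective (h.trans (map_zero _).symm)
  have := mem_smul_of_tmap_eq_zero A'.res A'.res_surjective h'
  rwa [show RingHom.ker A'.res = maximalIdeal A' from Ideal.ext fun a =>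
    (RingHom.mem_ker).trans (mem_maximalIdeal_iff A' a).symm] at this

variable (J : Ideal (A ⊗[k] R))

/-- `J'` is a lift of `J` with flat quotient. -/
structure IsLift (J' : Ideal (A' ⊗[k] R)) : Prop where
  map : J'.map (tmap R p.toAlgHom) = J
  cap : ∀ c, e.tc R c ∈ J' → c ∈ J.map (l0 R A)

variable {e J} {J' J'' J''' : Ideal (A' ⊗[k] R)}

theorem map_l0_eq (h : J'.map (tmap R p.toAlgHom) = J) : J'.map (l0 R A') = J.map (l0 R A) := by
  rw [← h, Ideal.map_mapₐ]
  exact congrArg (fun f : A' ⊗[k] R →ₐ[k] R => J'.map f) (AlgHom.ext fun w => (l0_tmap p w).symm)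

theorem IsLift.tc_mem (h : IsLift e J J') {c : R} (hc : c ∈ J.map (l0 R A)) : e.tc R c ∈ J' := by
  rw [← map_l0_eq h.map] at hc
  obtain ⟨w, hw, rfl⟩ := (Ideal.mem_map_iff_of_surjective (l0 R A') (l0_surjective _)).1 hc
  rw [← e.t_smul]
  exact Submodule.smul_of_tower_mem J' _ hw

theorem IsLift.exists_same (h : IsLift e J J') (h' : IsLift e J J'') {w : A' ⊗[k] R} (hw : w ∈ J') :
    ∃ w'' ∈ J'', ∃ c, w'' - w = e.tc R c := by
  have : tmap R p.toAlgHom w ∈ J''.map (tmap R p.toAlgHom) := by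
    rw [h'.map, ← h.map]
    exact Ideal.mem_map_of_mem _ hw
  obtain ⟨w'', hw'', he⟩ := (Ideal.mem_map_iff_of_surjective _ (tmap_surjective p.toAlgHom e.surj)).1 this
  exact ⟨w'', hw'', e.exists_tc (by rw [map_sub, he, sub_self])⟩

theorem isLift_of_flat (hmap : J'.map (tmap R p.toAlgHom) = J) (hflat : Module.Flat A' ((A' ⊗[k] R) ⧸ J')) :
    IsLift e J J' := by
  refine ⟨hmap, fun c hc => ?_⟩
  let mk : A' ⊗[k] R →ₗ[A'] _ ⧸ (J'.restrictScalars A') := (J'.restrictScalars A').mkQ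
  haveI : Module.Flat A' ((A' ⊗[k] R) ⧸ (J'.restrictScalars A')) := hflat
  have hx : e.t • mk (1 ⊗ₜ c) = 0 := by
    rw [← map_smul]
    refine (Submodule.Quotient.mk_eq_zero _).2 ?_
    rw [e.t_smul, l0_tmul, map_one, one_smul]
    exact hc
  have h1 := HilbObsLib.mem_of_smul_eq_zero e.t e.ne hx
  rw [← Submodule.range_mkQ (J'.restrictScalars A'), ← Submodule.map_top, ← Submodule.map_smul''] at h1
  obtain ⟨v, hv, he⟩ := h1
  have hJ : (1 : A') ⊗ₜ c - v ∈ J' := (Submodule.Quotient.eq (J'.restrictScalars A')).1 he.symm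
  have := Ideal.mem_map_of_mem (l0 R A') hJ
  rwa [map_sub, l0_eq_zero_of_mem _ hv, sub_zero, l0_tmul, map_one, one_smul, map_l0_eq hmap] at this

variable [hJ : Fact (Module.Flat A ((A ⊗[k] R) ⧸ J))]

theorem IsLift.flat (h : IsLift e J J') : Module.Flat A' ((A' ⊗[k] R) ⧸ J') := by
  let Q := (A ⊗[k] R) ⧸ J
  let g : (A' ⧸ Ideal.span {e.t}) ≃+* A :=
    (Ideal.quotEquivOfEq (e.ker.symm : Ideal.span {e.t} = RingHom.ker p.toAlgHom.toRingHom)).trans
      (RingHom.quotientKerEquivOfSurjective (f := p.toAlgHom.toRingHom) e.surj)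
  letI : Algebra (A' ⧸ Ideal.span {e.t}) A := g.toRingHom.toAlgebra
  letI : Module (A' ⧸ Ideal.span {e.t}) Q := Module.compHom Q g.toRingHom
  letI : Module A' Q := Module.compHom Q p.toAlgHom.toRingHom
  haveI : IsScalarTower A' (A' ⧸ Ideal.span {e.t}) Q := .of_algebraMap_smul fun b m => rfl
  haveI : IsScalarTower (A' ⧸ Ideal.span {e.t}) A Q := .of_algebraMap_smul fun b m => rfl
  haveI : Module.Flat (A' ⧸ Ideal.span {e.t}) A :=
    Module.Flat.of_linearEquiv
      (LinearEquiv.ofBijective (Algebra.linearMap (A' ⧸ Ideal.span {e.t}) A) g.bijective).symm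
  haveI : Module.Flat (A' ⧸ Ideal.span {e.t}) Q :=
    haveI := hJ.out; Module.Flat.trans (A' ⧸ Ideal.span {e.t}) A Q
  let q : (A' ⊗[k] R) →ₗ[A'] Q :=
    { toFun := fun x => Ideal.Quotient.mk J (tmap R p.toAlgHom x)
      map_add' := fun a b => by simp
      map_smul' := fun b x => by
        show Ideal.Quotient.mk J (tmap R p.toAlgHom (b • x)) = p.toAlgHom b • Ideal.Quotient.mk J (tmap R p.toAlgHom x)
        rw [tmap_smul]
        exact Submodule.Quotient.mk_smul _ _ _ }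
  have hq : Function.Surjective q := fun z => by
    obtain ⟨w, rfl⟩ := Ideal.Quotient.mk_surjective z
    obtain ⟨x, rfl⟩ := tmap_surjective p.toAlgHom e.surj w
    exact ⟨x, rfl⟩
  have hker : ∀ n, n ∈ LinearMap.ker q ↔ tmap R p.toAlgHom n ∈ J := fun n => Ideal.Quotient.eq_zero_iff_mem
  have := HilbObsLib.flat_of_lift e.t e.killed q hq (J'.restrictScalars A') e.t_mem
    (ArtFunLib.isNilpotent_maximalIdeal A')
    (fun n hn => by
      obtain ⟨j, hj, he⟩ := (Ideal.mem_map_iff_of_surjective _ (tmap_surjective p.toAlgHom e.surj)).1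
        (h.map.symm ▸ (hker n).1 hn : tmap R p.toAlgHom n ∈ J'.map (tmap R p.toAlgHom))
      obtain ⟨c, hc⟩ := e.exists_tc (x := n - j) (by rw [map_sub, he, sub_self])
      refine ⟨(1 : A') ⊗ₜ c, ?_⟩
      rw [e.t_smul, l0_tmul, map_one, one_smul, ← hc, sub_sub_cancel]
      exact hj)
    (fun n hn => (hker n).2 (h.map ▸ Ideal.mem_map_of_mem _ hn))
    (fun y hy => by
      rw [e.t_smul] at hy
      have hy' := h.cap _ hy
      rw [← map_l0_eq h.map] at hy'
      obtain ⟨w, hw, he⟩ := (Ideal.mem_map_iff_of_surjective (l0 R A') (l0_surjective _)).1 hy'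
      rw [← sub_add_cancel y w, add_comm]
      exact Submodule.add_mem_sup ((hker w).2 (h.map ▸ Ideal.mem_map_of_mem _ hw))
        (mem_smul_of_l0_eq_zero (by rw [map_sub, he, sub_self])))
  exact this

theorem IsLift.diff_mem (h : IsLift e J J') (h' : IsLift e J J'') {u u' : A' ⊗[k] R} {c : R}
    (hu : u ∈ J') (hu' : u' ∈ J'') (h0 : l0 R A' u = 0) (hd : u' - u = e.tc R c) : c ∈ J.map (l0 R A) := by
  haveI : Module.Flat A' ((A' ⊗[k] R) ⧸ J'.restrictScalars A') := h.flat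
  have hm := HilbObsLib.mem_smul_of_flat (J'.restrictScalars A') (maximalIdeal A') hu (mem_smul_of_l0_eq_zero h0)
  have hu'' : u ∈ J'' := by
    refine Submodule.smul_induction_on hm (fun b hb x hx => ?_) (fun a b ha hb => add_mem ha hb)
    obtain ⟨y, hy, d, hyd⟩ := h.exists_same h' hx
    have : b • x = b • y := by
      rw [eq_comm, ← sub_eq_zero, ← smul_sub, hyd, TensorProduct.smul_tmul', smul_eq_mul, e.killed b hb,
        TensorProduct.zero_tmul]
    rw [this]
    exact Submodule.smul_of_tower_mem J'' b hy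
  exact h'.cap c (hd ▸ sub_mem hu' hu'')

variable (e J' J'') in
/-- `c` is the difference of the lifts `J''` and `J'` on the element `a` of the closed fibre. -/
def Rel (a c : R) : Prop := ∃ w ∈ J', ∃ w' ∈ J'', l0 R A' w = a ∧ w' - w = e.tc R c

omit hJ in
theorem exists_rel (h : IsLift e J J') (h' : IsLift e J J'') {a : R} (ha : a ∈ J.map (l0 R A)) :
    ∃ c, Rel e J' J'' a c := by
  rw [← map_l0_eq h.map] at ha
  obtain ⟨w, hw, rfl⟩ := (Ideal.mem_map_iff_of_surjective (l0 R A') (l0_surjective _)).1 ha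
  obtain ⟨w', hw', c, hc⟩ := h.exists_same h' hw
  exact ⟨c, w, hw, w', hw', rfl, hc⟩

theorem rel_unique (h : IsLift e J J') (h' : IsLift e J J'') {a c d : R} (hc : Rel e J' J'' a c)
    (hd : Rel e J' J'' a d) : c - d ∈ J.map (l0 R A) := by
  obtain ⟨w, hw, w', hw', ha, hc⟩ := hc
  obtain ⟨v, hv, v', hv', hb, hd⟩ := hd
  refine h.diff_mem h' (sub_mem hw hv) (sub_mem hw' hv') (by rw [map_sub, ha, hb, sub_self]) ?_
  rw [Small.tc, TensorProduct.tmul_sub, ← Small.tc, ← Small.tc, ← hc, ← hd]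
  abel

omit hJ in
theorem rel_add {a b c d : R} (hc : Rel e J' J'' a c) (hd : Rel e J' J'' b d) : Rel e J' J'' (a + b) (c + d) := by
  obtain ⟨w, hw, w', hw', rfl, hc⟩ := hc
  obtain ⟨v, hv, v', hv', rfl, hd⟩ := hd
  refine ⟨w + v, add_mem hw hv, w' + v', add_mem hw' hv', map_add _ _ _, ?_⟩
  rw [Small.tc, TensorProduct.tmul_add, ← Small.tc, ← Small.tc, ← hc, ← hd]
  abel

omit hJ in
theorem rel_mul_left {a c : R} (r : R) (hc : Rel e J' J'' a c) : Rel e J' J'' (r * a) (r * c) := by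
  obtain ⟨w, hw, w', hw', rfl, hc⟩ := hc
  refine ⟨(1 ⊗ₜ r) * w, J'.mul_mem_left _ hw, (1 ⊗ₜ r) * w', J''.mul_mem_left _ hw', ?_, ?_⟩
  · rw [map_mul, l0_tmul, map_one, one_smul]
  · rw [← mul_sub, hc, e.mul_tc, l0_tmul, map_one, one_smul]

theorem rel_sq (h : IsLift e J J') (h' : IsLift e J J'') {a c : R}
    (ha : a ∈ J.map (l0 R A) * J.map (l0 R A)) (hc : Rel e J' J'' a c) : c ∈ J.map (l0 R A) := by
  suffices H : ∃ d ∈ J.map (l0 R A), Rel e J' J'' a d by
    obtain ⟨d, hd, hr⟩ := H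
    rw [← sub_add_cancel c d]
    exact add_mem (rel_unique h h' hc hr) hd
  refine Submodule.mul_induction_on ha (fun x hx y hy => ?_) (fun x y hx hy => ?_)
  · obtain ⟨cx, v, hv, v', hv', rfl, hcx⟩ := exists_rel h h' hx
    obtain ⟨cy, w, hw, w', hw', rfl, hcy⟩ := exists_rel h h' hy
    have hl : l0 R A' w' = l0 R A' w := by
      have := congrArg (l0 R A') hcy
      rwa [map_sub, e.l0_tc, sub_eq_zero] at this
    refine ⟨l0 R A' w' * cx + l0 R A' v * cy, add_mem (Ideal.mul_mem_right _ _ (hl.symm ▸ hy))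
      (Ideal.mul_mem_right _ _ hx), v * w, J'.mul_mem_left _ hw, v' * w', J''.mul_mem_left _ hw', map_mul _ _ _, ?_⟩
    rw [Small.tc, TensorProduct.tmul_add, ← Small.tc, ← Small.tc, ← e.mul_tc, ← e.mul_tc, ← hcx, ← hcy]
    ring
  · obtain ⟨cx, hcx, hx⟩ := hx
    obtain ⟨cy, hcy, hy⟩ := hy
    exact ⟨cx + cy, add_mem hcx hcy, rel_add hx hy⟩

theorem rel_trans (h' : IsLift e J J'') (h'' : IsLift e J J''') {a c d : R} (hc : Rel e J' J'' a c)
    (hd : Rel e J'' J''' a d) : ∃ f, Rel e J' J''' a f ∧ f - (c + d) ∈ J.map (l0 R A) := by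
  obtain ⟨w, hw, w', hw', ha, hc⟩ := hc
  obtain ⟨w'', hw'', d', hd'⟩ := h'.exists_same h'' hw'
  have ha' : l0 R A' w' = a := by
    have := congrArg (l0 R A') hc
    rw [map_sub, e.l0_tc, sub_eq_zero] at this
    exact this.trans ha
  refine ⟨c + d', ⟨w, hw, w'', hw'', ha, ?_⟩, ?_⟩
  · rw [Small.tc, TensorProduct.tmul_add, ← Small.tc, ← Small.tc, ← hc, ← hd']
    abel
  · rw [add_sub_add_left_eq_sub]
    exact rel_unique h' h'' ⟨w', hw', w'', hw'', ha', hd'⟩ hd

theorem eq_of_rel (h : IsLift e J J') (h' : IsLift e J J'')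
    (H : ∀ a c, Rel e J' J'' a c → c ∈ J.map (l0 R A)) : J' = J'' := by
  refine le_antisymm (fun w hw => ?_) (fun w' hw' => ?_)
  · obtain ⟨w', hw', c, hc⟩ := h.exists_same h' hw
    rw [← sub_sub_cancel w' w, hc]
    exact sub_mem hw' (h'.tc_mem (H _ c ⟨w, hw, w', hw', rfl, hc⟩))
  · obtain ⟨w, hw, c, hc⟩ := h'.exists_same h hw'
    have hc' : w' - w = e.tc R (-c) := by
      rw [Small.tc, TensorProduct.tmul_neg, ← Small.tc, ← hc, neg_sub]
    rw [← sub_add_cancel w' w, hc']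
    exact add_mem (h.tc_mem (H _ _ ⟨w, hw, w', hw', rfl, hc'⟩)) hw

/-- A difference to act by. -/
structure Deriv (I : Ideal R) (S : R → R → Prop) : Prop where
  zero : S 0 0
  add : ∀ {a b c d}, S a c → S b d → S (a + b) (c + d)
  mul : ∀ (r : R) {a c}, S a c → S (r * a) (r * c)
  total : ∀ a ∈ I, ∃ c, S a c
  mem : ∀ {c}, S 0 c → c ∈ I

omit hJ in
/-- A lift moved by a difference. -/
def act (J' : Ideal (A' ⊗[k] R)) {I : Ideal R} {S : R → R → Prop} (hS : Deriv I S) : Ideal (A' ⊗[k] R) where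
  carrier := {w' | ∃ w ∈ J', ∃ c, S (l0 R A' w) c ∧ w' - w = e.tc R c}
  zero_mem' := ⟨0, zero_mem _, 0, by rw [map_zero]; exact hS.zero,
    by rw [sub_self, Small.tc, TensorProduct.tmul_zero]⟩
  add_mem' := fun {a b} ha hb => by
    obtain ⟨w, hw, c, hc, ec⟩ := ha
    obtain ⟨v, hv, d, hd, ed⟩ := hb
    refine ⟨w + v, add_mem hw hv, c + d, by rw [map_add]; exact hS.add hc hd, ?_⟩
    rw [Small.tc, TensorProduct.tmul_add, ← Small.tc, ← Small.tc, ← ec, ← ed]
    abel
  smul_mem' := fun x w' hw' => by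
    obtain ⟨w, hw, c, hc, ec⟩ := hw'
    refine ⟨x * w, J'.mul_mem_left _ hw, l0 R A' x * c, by rw [map_mul]; exact hS.mul _ hc, ?_⟩
    rw [smul_eq_mul, ← mul_sub, ec, e.mul_tc]

variable {S : R → R → Prop} (hS : Deriv (J.map (l0 R A)) S)

omit hJ in
theorem isLift_act (h : IsLift e J J') : IsLift e J (act (e := e) J' hS) := by
  refine ⟨le_antisymm (Ideal.map_le_iff_le_comap.2 fun w' hw' => ?_) fun x hx => ?_, fun c hc => ?_⟩
  · obtain ⟨w, hw, c, -, ec⟩ := hw'
    show tmap R p.toAlgHom w' ∈ J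
    rw [← sub_add_cancel w' w, ec, map_add, e.tmap_tc, zero_add, ← h.map]
    exact Ideal.mem_map_of_mem _ hw
  · rw [← h.map] at hx
    obtain ⟨w, hw, rfl⟩ := (Ideal.mem_map_iff_of_surjective _ (tmap_surjective p.toAlgHom e.surj)).1 hx
    obtain ⟨c, hc⟩ := hS.total (l0 R A' w) (map_l0_eq h.map ▸ Ideal.mem_map_of_mem _ hw)
    refine (Ideal.mem_map_iff_of_surjective _ (tmap_surjective p.toAlgHom e.surj)).2
      ⟨w + e.tc R c, ⟨w, hw, c, hc, by rw [add_sub_cancel_left]⟩, ?_⟩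
    rw [map_add, e.tmap_tc, add_zero]
  · obtain ⟨w, hw, d, hd, ed⟩ := hc
    have hw' : w = e.tc R (c - d) := by
      rw [Small.tc, TensorProduct.tmul_sub, ← Small.tc, ← Small.tc, ← ed, sub_sub_cancel]
    rw [hw', e.l0_tc] at hd
    rw [← sub_add_cancel c d]
    exact add_mem (h.cap _ (hw' ▸ hw)) (hS.mem hd)

omit hJ in
theorem rel_act (h : IsLift e J J') {a c : R} (ha : a ∈ J.map (l0 R A)) (hc : S a c) :
    Rel e J' (act (e := e) J' hS) a c := by
  rw [← map_l0_eq h.map] at ha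
  obtain ⟨w, hw, rfl⟩ := (Ideal.mem_map_iff_of_surjective (l0 R A') (l0_surjective _)).1 ha
  exact ⟨w, hw, w + e.tc R c, ⟨w, hw, c, hc, by rw [add_sub_cancel_left]⟩, rfl, by rw [add_sub_cancel_left]⟩

section map

omit hJ

variable {R' : Type u} [CommRing R'] [Algebra k R'] (f : R →ₐ[k] R')

/-- Coefficient extension of a map of algebras. -/
abbrev mapR (C : Art k k) : C ⊗[k] R →ₐ[k] C ⊗[k] R' := Algebra.TensorProduct.map (AlgHom.id k C) f

theorem mapR_tc (c : R) : mapR f A' (e.tc R c) = e.tc R' (f c) := rfl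

theorem l0_mapR (C : Art k k) (w : C ⊗[k] R) : l0 R' C (mapR f C w) = f (l0 R C w) := by
  induction w using TensorProduct.induction_on with
  | zero => simp
  | tmul a r =>
    rw [show mapR f C (a ⊗ₜ r) = a ⊗ₜ f r from rfl, l0_tmul, l0_tmul]
    exact (map_smul f _ _).symm
  | add a b ha hb => simp only [map_add, ha, hb]

theorem tmap_mapR (w : A' ⊗[k] R) : tmap R' p.toAlgHom (mapR f A' w) = mapR f A (tmap R p.toAlgHom w) := by
  induction w using TensorProduct.induction_on with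
  | zero => simp
  | tmul a r => rfl
  | add a b ha hb => simp only [map_add, ha, hb]

theorem map_l0_mapR (C : Art k k) (K : Ideal (C ⊗[k] R)) :
    (K.map (mapR f C)).map (l0 R' C) = (K.map (l0 R C)).map f := by
  rw [Ideal.map_mapₐ, Ideal.map_mapₐ]
  exact congrArg (fun g : C ⊗[k] R →ₐ[k] R' => K.map g) (AlgHom.ext fun w => l0_mapR f C w)

theorem rel_mapR {a c : R} (h : Rel e J' J'' a c) :
    Rel e (J'.map (mapR f A')) (J''.map (mapR f A')) (f a) (f c) := by
  obtain ⟨w, hw, w', hw', rfl, hc⟩ := h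
  exact ⟨_, Ideal.mem_map_of_mem _ hw, _, Ideal.mem_map_of_mem _ hw', l0_mapR f A' w,
    by rw [← map_sub, hc, mapR_tc]⟩

theorem IsLift.mapR (h : IsLift e J J') (hf : (mapR f A').toRingHom.Flat) :
    IsLift e (J.map (mapR f A)) (J'.map (mapR f A')) := by
  refine ⟨?_, fun c hc => ?_⟩
  · rw [← h.map, Ideal.map_mapₐ, Ideal.map_mapₐ]
    exact congrArg (fun g : A' ⊗[k] R →ₐ[k] A ⊗[k] R' => J'.map g) (AlgHom.ext fun w => tmap_mapR f w)
  rw [map_l0_mapR]
  let φ := (ObsLiftLib.mapR f A').toRingHom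
  letI : Algebra (A' ⊗[k] R) (A' ⊗[k] R') := φ.toAlgebra
  haveI : Module.Flat (A' ⊗[k] R) (A' ⊗[k] R') := hf
  classical
  have hex : e.tc R' c ∈ Submodule.span (A' ⊗[k] R') (φ '' (J' : Set (A' ⊗[k] R))) := hc
  obtain ⟨m, g, j, hj, hsum⟩ : ∃ (m : ℕ) (g : Fin m → A' ⊗[k] R') (j : Fin m → A' ⊗[k] R),
      (∀ s, j s ∈ J') ∧ ∑ s, φ (j s) * g s = e.tc R' c := by
    obtain ⟨m, g, v, hv⟩ := Submodule.mem_span_set'.1 hex
    choose j hj hjv using fun s => (v s).2
    exact ⟨m, g, j, hj, by rw [← hv]; exact Finset.sum_congr rfl fun s _ => by rw [hjv, smul_eq_mul, mul_comm]⟩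
  let τ : A' ⊗[k] R := e.t ⊗ₜ 1
  let fv : Option (Fin m) → A' ⊗[k] R := fun o => o.elim τ fun s => -j s
  let xv : Option (Fin m) → A' ⊗[k] R' := fun o => o.elim (1 ⊗ₜ c) g
  have hrel : ∑ o, fv o • xv o = 0 := by
    rw [Fintype.sum_option]
    have h1 : fv none • xv none = e.tc R' c := by
      show φ τ * ((1 : A') ⊗ₜ[k] c) = _
      rw [show φ τ = e.t ⊗ₜ f 1 from rfl, map_one, Algebra.TensorProduct.tmul_mul_tmul, mul_one, one_mul]
    have h2 : ∀ s, fv (some s) • xv (some s) = -(φ (j s) * g s) := fun s => by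
      show φ (-j s) * g s = _
      rw [map_neg, neg_mul]
    rw [h1, Finset.sum_congr rfl fun s _ => h2 s, Finset.sum_neg_distrib, hsum, add_neg_cancel]
  obtain ⟨l, a, y, hxy, hra⟩ := Module.Flat.isTrivialRelation_of_sum_smul_eq_zero (R := A' ⊗[k] R) (M := A' ⊗[k] R') (f := fv) (x := xv) hrel
  have hc' : c = l0 R' A' ((1 : A') ⊗ₜ c) := by rw [l0_tmul, map_one, one_smul]
  rw [hc', show (1 : A') ⊗ₜ[k] c = ∑ q, a none q • y q from hxy none, map_sum]
  refine Ideal.sum_mem _ fun q _ => ?_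
  show l0 R' A' (φ (a none q) * y q) ∈ _
  rw [map_mul]
  refine Ideal.mul_mem_right _ _ ?_
  rw [show l0 R' A' (φ (a none q)) = f (l0 R A' (a none q)) from l0_mapR f A' _]
  refine Ideal.mem_map_of_mem _ (h.cap _ ?_)
  have h0 := hra q
  rw [Fintype.sum_option, add_eq_zero_iff_eq_neg] at h0
  have e1 : e.tc R (l0 R A' (a none q)) = a none q * fv none := by
    show _ = a none q * e.tc R 1
    rw [e.mul_tc, mul_one]
  rw [e1, mul_comm, h0, ← Finset.sum_neg_distrib]
  refine Ideal.sum_mem _ fun s _ => ?_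
  show -(-j s * a (some s) q) ∈ J'
  rw [neg_mul, neg_neg]
  exact J'.mul_mem_right _ (hj s)

end map

end Groth.Agent.ObsLiftLib
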