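import Groth.Agent.ObsLiftLib.Global
import Groth.Agent.ObsLiftLib.Lci
import Groth.Agent.ObsLiftLib.LocFree
import Groth.Agent.TanHilbLib.Finite
import Groth.Agent.ArtFunLib.Functor
import Groth.Agent.S12483
import Groth.Prelude.Def_Formal

/-! Unobstructedness of the local Hilbert functor without first cohomology of the normal sheaf. -/

set_option autoImplicit false
set_option backward.isDefEq.respectTransparency false
set_option backward.isDefEq.respectTransparency.types false
set_option linter.style.haveILetI false

universe u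

open CategoryTheory CategoryTheory.Limits AlgebraicGeometry ArtFun ArtFun.Art

noncomputable section

namespace Groth.Agent.ObsLiftLib

open TanHilbLib

variable {k : Type u} [Field k] {Y Z : Scheme.{u}} {y : Y ⟶ specPt k} (i : Z ⟶ Y)

theorem subsingleton_normal [DCoh.HasSheafHom (Omega.conormal i)]
    (h : Subsingleton (Coh.HH Z ((DCoh.sheafHom (Omega.conormal i)).obj (Coh.structureModule Z)) 1)) :
    Subsingleton (Coh.HH Z (normal i) 1) := by
  refine (Function.Injective.subsingleton (f := fun x =>
    Sheaf.H.map ((SheafOfModules.toSheaf Z.ringCatSheaf).map (normalIso i).hom) 1 x) fun x x' hx => ?_)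
  have key : ∀ x : Coh.HH Z (normal i) 1,
      Sheaf.H.map ((SheafOfModules.toSheaf Z.ringCatSheaf).map (normalIso i).inv) 1
        (Sheaf.H.map ((SheafOfModules.toSheaf Z.ringCatSheaf).map (normalIso i).hom) 1 x) = x := fun x => by
    rw [Formal.HHmap_comp, (normalIso i).hom_inv_id, CategoryTheory.Functor.map_id, Sheaf.H.map_id_apply]
  rw [← key x, ← key x']
  exact congrArg _ hx

variable [IsClosedImmersion i]

/-- Lifting along small extensions with local lifts. -/
theorem surjective_map_small [Subsingleton (Coh.HH Z (normal i) 1)]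
    (hloc : ∀ {A' A : Art k k} {p : A' ⟶ A} (e : Small p) (s : (localHilb Y y i.ker).obj A),
      ∀ z : Y, ∃ V : Y.affineOpens, z ∈ V.1 ∧ Nonempty (Lift y i e s V))
    {A' A : Art k k} (p : A' ⟶ A) (hp : IsSmallExt p) : Function.Surjective ((localHilb Y y i.ker).map p) := by
  intro s
  obtain ⟨e⟩ := exists_small hp
  choose V hz L using hloc e s
  exact exists_lift_of_cover (ι := Y) (fun z => V z) (fun z => ⟨z, hz z⟩) fun z => (L z).some

/-- Lifting along all surjections with local lifts. -/
theorem isSmoothFunctor_localHilb [Subsingleton (Coh.HH Z (normal i) 1)]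
    (hloc : ∀ {A' A : Art k k} {p : A' ⟶ A} (e : Small p) (s : (localHilb Y y i.ker).obj A),
      ∀ z : Y, ∃ V : Y.affineOpens, z ∈ V.1 ∧ Nonempty (Lift y i e s V)) :
    IsSmoothFunctor (localHilb Y y i.ker) := fun B A μ hμ =>
  ArtFunLib.surjective_induction (P := fun A B f => Function.Surjective ((localHilb Y y i.ker).map f))
    (fun A B f hf s => ⟨(localHilb Y y i.ker).map (inv f) s, by
      rw [← FunctorToTypes.map_comp_apply, IsIso.inv_hom_id, FunctorToTypes.map_id_apply]⟩)
    (fun A B f hf => surjective_map_small i hloc f hf)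
    (fun A B C f g _ _ hf hg s => by
      obtain ⟨t, rfl⟩ := hg s
      obtain ⟨r, rfl⟩ := hf t
      exact ⟨r, FunctorToTypes.map_comp_apply _ f g r⟩) μ hμ

/-- A regular closed immersion without first cohomology of the normal sheaf is unobstructed. -/
theorem isSmoothFunctor_of_lci (hreg : Mor2.IsRegularClosedImmersion i) [DCoh.HasSheafHom (Omega.conormal i)]
    (h : Subsingleton (Coh.HH Z ((DCoh.sheafHom (Omega.conormal i)).obj (Coh.structureModule Z)) 1))
    {J : Y.IdealSheafData} (hJ : i.ker = J) : IsSmoothFunctor (localHilb Y y J) := by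
  subst hJ
  haveI := subsingleton_normal i h
  exact isSmoothFunctor_localHilb i fun e s => exists_cover_of_lci e s hreg

/-- The same, with the vanishing expressed by `Ext`. -/
theorem isSmoothFunctor_of_lci_ext (hreg : Mor2.IsRegularClosedImmersion i) [HasExt.{u} Z.Modules]
    (h : Subsingleton (Abelian.Ext.{u} (Omega.conormal i) (Coh.structureModule Z) 1))
    {J : Y.IdealSheafData} (hJ : i.ker = J) : IsSmoothFunctor (localHilb Y y J) := by
  haveI : DCoh.HasSheafHom (Omega.conormal i) :=
    haveI := hasHom (Omega.conormal i)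
    ⟨_, ⟨(ModSite.sheafHomAdj (O := Z.sheaf) (Omega.conormal i)).ofNatIsoLeft
      (ModTensor.tensorSymm Z.sheaf (Omega.conormal i))⟩⟩
  obtain ⟨e⟩ := S12483.result Z (Omega.conormal i) (Coh.structureModule Z) (isFinLocFree_conormal i hreg) 1
  exact isSmoothFunctor_of_lci i hreg e.symm.toEquiv.subsingleton hJ

end Groth.Agent.ObsLiftLib
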