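import Groth.Agent.ObsLiftLib.MinorsLift
import Groth.Agent.ObsLiftLib.Main
import Groth.Agent.RegIdealLib.Immersion
import Groth.Agent.ASp.GeomRedEt
import Groth.Agent.IdealStalkLib.Cartier
import Groth.Agent.CMCat.Polynomial
import Groth.Agent.S11449
import Groth.Agent.S12908

/-! Cohen–Macaulay subschemes of codimension two have local lifts. -/

set_option autoImplicit false
set_option backward.isDefEq.respectTransparency false
set_option backward.isDefEq.respectTransparency.types false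
set_option linter.style.haveILetI false

universe u

open CategoryTheory CategoryTheory.Limits AlgebraicGeometry ArtFun ArtFun.Art IsLocalRing
open scoped TensorProduct Pointwise

noncomputable section

namespace Groth.Agent.ObsLiftLib

open LocHilbGlueLib TanHilbLib DeformLib

/-- Near a Cohen–Macaulay point of codimension two the ideal is generated by maximal minors. -/
theorem exists_minors_spread {R O : Type u} [CommRing R] [IsNoetherianRing R] [CommRing O] [Algebra R O]
    (q : Ideal R) [q.IsPrime] [IsLocalization.AtPrime O q] [IsRegularLocalRing O] (I : Ideal R)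
    [LocCoh.IsCohenMacaulayLocalRing (O ⧸ I.map (algebraMap R O))]
    (hdim : ringKrullDim (O ⧸ I.map (algebraMap R O)) + 2 = ringKrullDim O) :
    ∃ (r : ℕ) (φ : Matrix (Fin (r + 1)) (Fin r) R) (u : R), u ∉ q ∧
      ∀ (T : Type u) [CommRing T] [Algebra R T], IsUnit (algebraMap R T u) →
        I.map (algebraMap R T) = Ideal.span (Set.range (mnr (φ.map (algebraMap R T)))) := by
  obtain ⟨r, φ₀, hspan, -, -, -⟩ := Groth.Agent.S11449.result O (I.map (algebraMap R O)) hdim
  obtain ⟨s, hs⟩ := IsLocalization.exist_integer_multiples_of_finite q.primeCompl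
    fun x : Fin (r + 1) × Fin r => φ₀ x.1 x.2
  choose a ha using hs
  let φ : Matrix (Fin (r + 1)) (Fin r) R := Matrix.of fun i j => a (i, j)
  let c : O := algebraMap R O s
  have hc : IsUnit (c ^ r) := (IsLocalization.map_units O s).pow r
  have hφ : ∀ i, algebraMap R O (mnr φ i) = c ^ r * mnr φ₀ i := fun i => by
    rw [← mnr_map, show φ.map (algebraMap R O) = c • φ₀ from Matrix.ext fun i j => by
      show algebraMap R O (a (i, j)) = c * φ₀ i j
      rw [ha (i, j), Algebra.smul_def]]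
    rw [mnr, mnr, Matrix.submatrix_smul, Pi.smul_apply, Pi.smul_apply, Matrix.det_smul, Fintype.card_fin]
    ring
  have hI : I.map (algebraMap R O) = (Ideal.span (Set.range (mnr φ))).map (algebraMap R O) := by
    rw [← hspan, Ideal.map_span, ← Set.range_comp]
    refine le_antisymm (Ideal.span_le.2 ?_) (Ideal.span_le.2 ?_) <;> rintro _ ⟨i, rfl⟩
    · refine (Ideal.unit_mul_mem_iff_mem _ hc).1 ?_
      show c ^ r * mnr φ₀ i ∈ _
      rw [← hφ]
      exact Ideal.subset_span ⟨i, rfl⟩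
    · show algebraMap R O (mnr φ i) ∈ _
      rw [hφ]
      exact Ideal.mul_mem_left _ _ (Ideal.subset_span ⟨i, rfl⟩)
  obtain ⟨u, hu, huT⟩ := IdealStalkLib.exists_notMem_map_away_eq q I _ (IsNoetherian.noetherian I)
    (IsNoetherian.noetherian _) hI
  refine ⟨r, φ, u, hu, fun T _ _ hT => (huT T hT).trans ?_⟩
  rw [Ideal.map_span, ← Set.range_comp]
  congr 2
  funext i
  exact (mnr_map _ φ i).symm

/-- A matrix whose minors contain a regular pair gives an exact resolution. -/
theorem exact_of_pair {T : Type u} [CommRing T] [IsNoetherianRing T] {r : ℕ}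
    (φ : Matrix (Fin (r + 1)) (Fin r) T) {x y : T} (hx : x ∈ Ideal.span (Set.range (mnr φ)))
    (hy : y ∈ Ideal.span (Set.range (mnr φ))) (hxn : x ∈ nonZeroDivisors T)
    (hreg : ∀ z, y * z ∈ Ideal.span {x} → z ∈ Ideal.span {x}) :
    Function.Injective φ.mulVecLin ∧
      ∀ v, Fintype.linearCombination T (mnr φ) v = 0 → ∃ w, φ.mulVecLin w = v := by
  have hle : Ideal.span (Set.range (mnr φ)) ≤ CAlgX.minorIdeal φ r := Ideal.span_le.2 (by
    rintro _ ⟨i, rfl⟩
    exact Ideal.mul_mem_left _ _ (Ideal.subset_span ⟨(i.succAbove, id), rfl⟩))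
  have hdepth : 2 ≤ LocCoh.idealDepth (CAlgX.minorIdeal φ r) T := by
    unfold LocCoh.idealDepth
    split
    · exact le_top
    · refine le_iSup₂_of_le [x, y] ⟨?_, by
        intro r hr
        simp only [List.mem_cons, List.not_mem_nil, or_false] at hr
        rcases hr with rfl | rfl
        · exact hle hx
        · exact hle hy⟩ le_rfl
      rw [RingTheory.Sequence.isWeaklyRegular_cons_iff, RingTheory.Sequence.isWeaklyRegular_singleton_iff]
      have hmem : ∀ z : T, z ∈ (x • ⊤ : Submodule T T) ↔ z ∈ Ideal.span {x} := fun z => by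
        rw [← Submodule.ideal_span_singleton_smul, smul_eq_mul, Ideal.mul_top]
      refine ⟨isSMulRegular_iff_right_eq_zero_of_smul.2 fun z hz => (mem_nonZeroDivisors_iff_right.1 hxn) z (by rw [mul_comm]; exact hz),
        isSMulRegular_iff_right_eq_zero_of_smul.2 fun q hq => ?_⟩
      obtain ⟨z, rfl⟩ := Submodule.Quotient.mk_surjective _ q
      rw [← Submodule.Quotient.mk_smul, Submodule.Quotient.mk_eq_zero, hmem] at hq
      rw [Submodule.Quotient.mk_eq_zero, hmem]
      exact hreg z hq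
  obtain ⟨h1, h2, -⟩ := Groth.Agent.S12908.result r φ hdepth 1 (one_mem _)
  simp only [one_mul] at h2
  exact ⟨LinearMap.ker_eq_bot.1 h1, fun v hv => h2.le (show v ∈ LinearMap.ker _ from hv)⟩

variable {k : Type u} [Field k] {Y Z : Scheme.{u}} {y : Y ⟶ specPt k} (i : Z ⟶ Y) [IsClosedImmersion i]

theorem smooth_algV (hy : Smooth y) (V : Y.affineOpens) :
    letI := algV y V.1
    Algebra.Smooth k Γ(Y, V.1) :=
  RingHom.Smooth.respectsIso.2 _ (Scheme.ΓSpecIso (CommRingCat.of k)).symm.commRingCatIsoToRingEquiv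
    (HasRingHomProperty.appLE (P := @Smooth) y hy ⟨⊤, isAffineOpen_top _⟩ V le_top)

theorem two_le_height (hcodim : ∀ w : Z, ringKrullDim (Z.presheaf.stalk w) + 2 =
    ringKrullDim (Y.presheaf.stalk (i.base w))) (V : Y.affineOpens) (p : Ideal Γ(Y, V.1)) [p.IsPrime]
    (hp : RingHom.ker (i.app V.1).hom ≤ p) : (2 : ℕ∞) ≤ p.height := by
  let P : PrimeSpectrum Γ(Y, V.1) := ⟨p, inferInstance⟩
  obtain ⟨w, hw⟩ : V.2.fromSpec P ∈ Set.range i := by
    have h1 : V.2.fromSpec P ∈ V.2.fromSpec '' PrimeSpectrum.zeroLocus (i.ker.ideal V : Set Γ(Y, V.1)) :=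
      ⟨P, (PrimeSpectrum.mem_zeroLocus P _).2 ((Scheme.Hom.ker_apply i V).le.trans hp), rfl⟩
    rw [V.2.fromSpec_image_zeroLocus, ← Scheme.IdealSheafData.coe_support_inter] at h1
    have h2 := h1.1
    rw [Scheme.Hom.support_ker, (i.isClosedEmbedding.isClosed_range).closure_eq] at h2
    exact h2
  have h := hcodim w
  have hmem : V.2.fromSpec P ∈ V.1 := by
    have : V.2.fromSpec P ∈ Set.range V.2.fromSpec := ⟨P, rfl⟩
    rwa [V.2.range_fromSpec] at this
  letI : Algebra Γ(Y, V.1) (Y.presheaf.stalk (V.2.fromSpec P)) :=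
    TopCat.Presheaf.algebra_section_stalk Y.presheaf ⟨V.2.fromSpec P, hmem⟩
  haveI : IsLocalization.AtPrime (Y.presheaf.stalk (V.2.fromSpec P)) p := V.2.isLocalization_stalk' P hmem
  rw [show i.base w = V.2.fromSpec P from hw,
    IsLocalization.AtPrime.ringKrullDim_eq_height p (Y.presheaf.stalk (V.2.fromSpec P))] at h
  refine WithBot.coe_le_coe.1 (h ▸ ?_)
  exact le_add_of_nonneg_left ringKrullDim_nonneg_of_nontrivial

/-- The local presentations by maximal minors. -/
theorem exists_minors_nhd (hy : Smooth y)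
    (hCM : ∀ w : Z, LocCoh.IsCohenMacaulayLocalRing (Z.presheaf.stalk w))
    (hcodim : ∀ w : Z, ringKrullDim (Z.presheaf.stalk w) + 2 = ringKrullDim (Y.presheaf.stalk (i.base w))) (w : Z) :
    ∃ V : Y.affineOpens, i.base w ∈ V.1 ∧ ∃ (r : ℕ) (φ : Matrix (Fin (r + 1)) (Fin r) Γ(Y, V.1)),
      RingHom.ker (i.app V.1).hom = Ideal.span (Set.range (mnr φ)) ∧
      Function.Injective φ.mulVecLin ∧
      (∀ v, Fintype.linearCombination Γ(Y, V.1) (mnr φ) v = 0 → ∃ x, φ.mulVecLin x = v) ∧
      ∃ x₀ ∈ Ideal.span (Set.range (mnr φ)), ∃ y₀ ∈ Ideal.span (Set.range (mnr φ)),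
        x₀ ∈ nonZeroDivisors Γ(Y, V.1) ∧ ∀ z, y₀ * z ∈ Ideal.span {x₀} → z ∈ Ideal.span {x₀} := by
  obtain ⟨U, hU, hwU, -⟩ := exists_isAffineOpen_mem_and_subset (X := Y) (x := i.base w) (U := ⊤) trivial
  haveI := hy
  haveI : IsLocallyNoetherian Y := LocallyOfFiniteType.isLocallyNoetherian y
  haveI : IsNoetherianRing Γ(Y, U) := IsLocallyNoetherian.component_noetherian ⟨U, hU⟩
  haveI := ASp.isRegularLocalRing_stalk_of_smooth_field y (i.base w)
  letI : Algebra Γ(Y, U) (Y.presheaf.stalk (i.base w)) := TopCat.Presheaf.algebra_section_stalk Y.presheaf ⟨i.base w, hwU⟩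
  haveI := hU.isLocalization_stalk ⟨i.base w, hwU⟩
  have hK : (RingHom.ker (i.app U).hom).map (algebraMap Γ(Y, U) (Y.presheaf.stalk (i.base w))) =
      RingHom.ker (i.stalkMap w).hom :=
    (RegIdealLib.ker_stalkMap i hU (IsZariskiLocalAtTarget.restrict (show IsClosedImmersion i from inferInstance) _) w hwU).symm
  let e := RingHom.quotientKerEquivOfSurjective (f := (i.stalkMap w).hom) (i.stalkMap_surjective w)
  let e' := (Ideal.quotEquivOfEq hK).trans e
  haveI := hCM w
  haveI := CMCat.isCohenMacaulayLocalRing_of_ringEquiv e'.symm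
  obtain ⟨r, φ₁, u, hu, hT⟩ := exists_minors_spread (hU.primeIdealOf ⟨i.base w, hwU⟩).asIdeal
    (RingHom.ker (i.app U).hom) (by rw [ringKrullDim_eq_of_ringEquiv e']; exact hcodim w)
  let V : Y.affineOpens := ⟨Y.basicOpen u, hU.basicOpen u⟩
  have hle : V.1 ≤ U := Y.basicOpen_le u
  have hwV : i.base w ∈ V.1 := (Y.mem_basicOpen u (i.base w) hwU).2
    (IsLocalization.map_units _ (⟨u, hu⟩ : (hU.primeIdealOf ⟨i.base w, hwU⟩).asIdeal.primeCompl))
  letI : Algebra Γ(Y, U) Γ(Y, V.1) := (Y.presheaf.map (homOfLE hle).op).hom.toAlgebra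
  haveI : IsLocalization.Away u Γ(Y, V.1) := hU.isLocalization_basicOpen u
  have hker := hT Γ(Y, V.1) (IsLocalization.Away.algebraMap_isUnit u)
  rw [show (RingHom.ker (i.app U).hom).map (algebraMap Γ(Y, U) Γ(Y, V.1)) = RingHom.ker (i.app V.1).hom from by
    rw [← Scheme.Hom.ker_apply i ⟨U, hU⟩, ← Scheme.Hom.ker_apply i V]
    exact i.ker.map_ideal (U := V) (V := ⟨U, hU⟩) hle] at hker
  haveI : IsNoetherianRing Γ(Y, V.1) := IsLocallyNoetherian.component_noetherian V
  letI := algV y V.1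
  haveI := smooth_algV hy V
  obtain ⟨x₀, hx₀, y₀, hy₀, hn, -, hreg⟩ := exists_pair_of_smooth k (RingHom.ker (i.app V.1).hom)
    fun p hp hle' => two_le_height i hcodim V p hle'
  rw [hker] at hx₀ hy₀
  obtain ⟨h1, h2⟩ := exact_of_pair _ hx₀ hy₀ hn hreg
  exact ⟨V, hwV, r, _, hker, h1, h2, x₀, hx₀, y₀, hy₀, hn, hreg⟩

/-- Cohen–Macaulay subschemes of codimension two of a smooth scheme have local lifts. -/
theorem exists_cover_of_cm (hy : Smooth y)
    (hCM : ∀ w : Z, LocCoh.IsCohenMacaulayLocalRing (Z.presheaf.stalk w))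
    (hcodim : ∀ w : Z, ringKrullDim (Z.presheaf.stalk w) + 2 = ringKrullDim (Y.presheaf.stalk (i.base w)))
    {A' A : Art k k} {p : A' ⟶ A} (e : Small p) (s : (localHilb Y y i.ker).obj A) :
    ∀ z : Y, ∃ V : Y.affineOpens, z ∈ V.1 ∧ Nonempty (Lift y i e s V) := by
  intro z
  by_cases hz : z ∈ Set.range i
  · obtain ⟨w, rfl⟩ := hz
    obtain ⟨V, hwV, r, φ, hker, hinj, hex, hpair⟩ := exists_minors_nhd i hy hCM hcodim w
    letI := algV y V.1
    obtain ⟨J', hJ'⟩ := exists_isLift_of_minors e ((flatOver_iff y A s.1).1 s.2.1 V.1 V.2) φ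
      ((TanHilbLib.map_l0_eq y i A s V.2).trans hker) hinj hex hpair
    exact ⟨V, hwV, ⟨⟨J', hJ'⟩⟩⟩
  · obtain ⟨U, hU, hzU, hle⟩ := exists_isAffineOpen_mem_and_subset
      (U := ⟨(Set.range i)ᶜ, i.isClosedEmbedding.isClosed_range.isOpen_compl⟩) (show z ∈ _ from hz)
    refine ⟨⟨U, hU⟩, hzU, nonempty_lift_of_disjoint e s ⟨U, hU⟩ ?_⟩
    refine eq_top_iff.2 fun r _ => RingHom.mem_ker.2 ?_
    haveI : Subsingleton Γ(Z, i ⁻¹ᵁ U) := CommRingCat.subsingleton_of_isTerminal (Z.sheaf.isTerminalOfEqEmpty (by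
      ext w
      exact ⟨fun hw => (hle hw ⟨w, rfl⟩).elim, fun hw => hw.elim⟩))
    exact Subsingleton.elim _ _

/-- A Cohen–Macaulay subscheme of codimension two of a smooth scheme without first cohomology of the
normal sheaf is unobstructed. -/
theorem isSmoothFunctor_of_cm (hy : Smooth y)
    (hCM : ∀ w : Z, LocCoh.IsCohenMacaulayLocalRing (Z.presheaf.stalk w))
    (hcodim : ∀ w : Z, ringKrullDim (Z.presheaf.stalk w) + 2 = ringKrullDim (Y.presheaf.stalk (i.base w)))
    [DCoh.HasSheafHom (Omega.conormal i)]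
    (h : Subsingleton (Coh.HH Z ((DCoh.sheafHom (Omega.conormal i)).obj (Coh.structureModule Z)) 1))
    {J : Y.IdealSheafData} (hJ : i.ker = J) : IsSmoothFunctor (localHilb Y y J) := by
  subst hJ
  haveI := subsingleton_normal i h
  exact isSmoothFunctor_localHilb i fun e s => exists_cover_of_cm i hy hCM hcodim e s

end Groth.Agent.ObsLiftLib
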