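import Groth.Agent.HilbRepLib.IdealGlue

/-! Ideal sheaves from their values on a basis of affine opens. -/

set_option autoImplicit false
set_option backward.isDefEq.respectTransparency false
set_option backward.isDefEq.respectTransparency.types false
set_option linter.style.haveILetI false
set_option maxHeartbeats 800000

universe u

open CategoryTheory CategoryTheory.Limits AlgebraicGeometry TopologicalSpace

namespace Groth.Agent.ObsLiftLib

open HilbRepLib (res_res)

variable {X : Scheme.{u}} {P : X.affineOpens → Prop} {L : ∀ W : X.affineOpens, P W → Ideal Γ(X, W.1)}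
  (hmono : ∀ W W' : X.affineOpens, P W → (W' : X.Opens) ≤ W → P W')
  (hres : ∀ (W W' : X.affineOpens) (h : P W) (h' : P W') (hle : (W' : X.Opens) ≤ W),
    (L W h).map (X.presheaf.map (homOfLE hle).op).hom = L W' h')

include hres hmono in
theorem mem_of_cover {V : X.affineOpens} (y : Γ(X, V.1)) {W : X.affineOpens} (h : P W)
    (hle : (W : X.Opens) ≤ V)
    (hy : ∀ x ∈ (W : X.Opens), ∃ (W' : X.affineOpens) (h' : P W') (hle' : (W' : X.Opens) ≤ V),
      x ∈ (W' : X.Opens) ∧ (X.presheaf.map (homOfLE hle').op).hom y ∈ L W' h') :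
    (X.presheaf.map (homOfLE hle).op).hom y ∈ L _ h := by
  let r : Set Γ(X, W.1) := {g | ∃ n : ℕ, g ^ n • (X.presheaf.map (homOfLE hle).op).hom y ∈ L _ h}
  have hr : ∀ x ∈ (W : X.Opens), ∃ g ∈ r, x ∈ X.basicOpen g := by
    intro x hx
    obtain ⟨W', h', hle', hxW', hy'⟩ := hy x hx
    obtain ⟨g, hgle, hxg⟩ := W.2.exists_basicOpen_le (V := W'.1) ⟨x, hxW'⟩ hx
    refine ⟨g, ?_, hxg⟩
    let D := X.affineBasicOpen g
    have hD : P D := hmono _ _ h (X.basicOpen_le g)
    letI : IsLocalization.Away g Γ(X, X.basicOpen g) := W.2.isLocalization_basicOpen g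
    have h2 : algebraMap Γ(X, W.1) Γ(X, X.basicOpen g) ((X.presheaf.map (homOfLE hle).op).hom y) ∈
        (L _ h).map (algebraMap Γ(X, W.1) Γ(X, X.basicOpen g)) := by
      have h3 := Ideal.mem_map_of_mem (X.presheaf.map (homOfLE (show (D : X.Opens) ≤ W' from hgle)).op).hom hy'
      rw [hres _ _ h' hD] at h3
      rw [← CommRingCat.comp_apply, ← Functor.map_comp] at h3
      have h4 : (L _ h).map (algebraMap Γ(X, W.1) Γ(X, X.basicOpen g)) = L _ hD :=
        hres _ _ h hD (X.basicOpen_le g)
      rw [h4]
      show (X.presheaf.map _).hom _ ∈ _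
      rw [← CommRingCat.comp_apply, ← Functor.map_comp]
      exact h3
    obtain ⟨m, ⟨n, hn⟩, hm⟩ := (IsLocalization.algebraMap_mem_map_algebraMap_iff (Submonoid.powers g) _ _ _).1 h2
    refine ⟨n, ?_⟩
    rw [smul_eq_mul]
    have hn' : g ^ n = m := hn
    rwa [hn']
  refine Submodule.mem_of_span_eq_top_of_smul_pow_mem _ r ?_ _ fun g => g.2
  rw [← W.2.iSup_basicOpen_eq_self_iff]
  refine le_antisymm (iSup_le fun g => X.basicOpen_le _) fun x hx => ?_
  obtain ⟨g, hg, hxg⟩ := hr x hx
  exact Opens.mem_iSup.2 ⟨⟨g, hg⟩, hxg⟩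

include hres hmono in
/-- Ideal sheaves glue. -/
theorem exists_glue (hcov : ∀ (V : X.affineOpens) (x : X), x ∈ (V : X.Opens) → ∃ W, P W ∧ (W : X.Opens) ≤ V ∧ x ∈ (W : X.Opens)) :
    ∃ J : X.IdealSheafData, ∀ W h, J.ideal W = L W h := by
  classical
  let Jf : ∀ V : X.affineOpens, Ideal Γ(X, V.1) := fun V =>
    ⨅ (W : X.affineOpens) (h : P W) (hle : (W : X.Opens) ≤ V),
      (L _ h).comap (X.presheaf.map (homOfLE hle).op).hom
  have mem : ∀ (V : X.affineOpens) (y : Γ(X, V.1)), y ∈ Jf V ↔
      ∀ (W : X.affineOpens) (h : P W) (hle : (W : X.Opens) ≤ V),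
        (X.presheaf.map (homOfLE hle).op).hom y ∈ L _ h := by
    intro V y
    simp only [Jf, Submodule.mem_iInf, Ideal.mem_comap]
  have small := hcov
  have hfix : ∀ (W : X.affineOpens) (h : P W), Jf W = L _ h := by
    intro W h
    refine le_antisymm (fun y hy => ?_) fun y hy => (mem W y).2 fun W' h' hle => ?_
    · simpa using (mem W y).1 hy W h le_rfl
    · rw [← hres _ _ h h' hle]
      exact Ideal.mem_map_of_mem _ hy
  let J : X.IdealSheafData :=
    { ideal := Jf
      map_ideal_basicOpen := fun V r => by
        let D := X.affineBasicOpen r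
        refine le_antisymm ?_ ?_
        · rw [Ideal.map_le_iff_le_comap]
          intro y hy
          rw [Ideal.mem_comap, mem]
          intro W h hle
          exact (res_res (X.basicOpen_le r) hle y).symm ▸ (mem V y).1 hy W h _
        · intro t ht
          letI : IsLocalization.Away r Γ(X, X.basicOpen r) := V.2.isLocalization_basicOpen r
          obtain ⟨n, y, hy⟩ := IsLocalization.Away.surj r t
          choose W hW hWle hxW using fun x : V.1 => small V x.1 x.2
          have hex : ∀ x : V.1, ∃ m : ℕ, (X.presheaf.map (homOfLE (hWle x)).op).hom (r ^ m * y) ∈ L _ (hW x) := by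
            intro x
            let g := (X.presheaf.map (homOfLE (hWle x)).op).hom r
            let E := X.affineBasicOpen (U := W x) g
            have hE : P E := hmono _ _ (hW x) (X.basicOpen_le g)
            have hED : (E : X.Opens) ≤ D := by
              show X.basicOpen g ≤ X.basicOpen r
              simp only [g, Scheme.basicOpen_res]
              exact inf_le_right
            letI : IsLocalization.Away g Γ(X, X.basicOpen g) := (W x).2.isLocalization_basicOpen g
            have h1 : (X.presheaf.map (homOfLE hED).op).hom (algebraMap Γ(X, V.1) Γ(X, X.basicOpen r) y) ∈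
                L _ hE := by
              rw [← hy, map_mul]
              exact Ideal.mul_mem_right _ _ ((mem D t).1 ht E hE hED)
            have h2 : algebraMap Γ(X, (W x).1) Γ(X, X.basicOpen g) ((X.presheaf.map (homOfLE (hWle x)).op).hom y) ∈
                (L _ (hW x)).map (algebraMap Γ(X, (W x).1) Γ(X, X.basicOpen g)) := by
              have h4 : (L _ (hW x)).map (algebraMap Γ(X, (W x).1) Γ(X, X.basicOpen g)) = L _ hE :=
                hres _ _ (hW x) hE (X.basicOpen_le g)
              rw [h4]
              have h5 : (X.presheaf.map (homOfLE hED).op).hom ((X.presheaf.map (homOfLE (X.basicOpen_le r)).op).hom y) ∈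
                  L _ hE := h1
              exact (res_res (hWle x) (X.basicOpen_le g) y).trans (res_res (X.basicOpen_le r) hED y).symm ▸ h5
            obtain ⟨m', ⟨m, hm⟩, hm'⟩ := (IsLocalization.algebraMap_mem_map_algebraMap_iff (Submonoid.powers g) _ _ _).1 h2
            refine ⟨m, ?_⟩
            have hm'' : g ^ m = m' := hm
            rw [map_mul, map_pow]
            show g ^ m * _ ∈ _
            rwa [hm'']
          choose m hm using hex
          obtain ⟨s, hs⟩ := V.2.isCompact.elim_finite_subcover (fun x : V.1 => ((W x).1 : Set X))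
            (fun x => (W x).1.2) (fun x hx => Set.mem_iUnion.2 ⟨⟨x, hx⟩, hxW ⟨x, hx⟩⟩)
          let N := s.sup m
          have hyN : r ^ N * y ∈ Jf V := by
            rw [mem]
            intro W₀ h₀ hle₀
            refine mem_of_cover hmono hres _ h₀ hle₀ fun z hz => ?_
            obtain ⟨x, hxs, hzx⟩ := Set.mem_iUnion₂.1 (hs (hle₀ hz))
            refine ⟨W x, hW x, hWle x, hzx, ?_⟩
            have hsplit : r ^ N * y = r ^ (N - m x) * (r ^ m x * y) := by
              rw [← mul_assoc, ← pow_add, Nat.sub_add_cancel (Finset.le_sup hxs)]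
            rw [hsplit, map_mul]
            exact Ideal.mul_mem_left _ _ (hm x)
          have hu : IsUnit (algebraMap Γ(X, V.1) Γ(X, X.basicOpen r) r) := IsLocalization.Away.algebraMap_isUnit r
          have h6 := Ideal.mem_map_of_mem (algebraMap Γ(X, V.1) Γ(X, X.basicOpen r)) hyN
          rw [map_mul, map_pow, ← hy, ← mul_assoc, mul_comm _ t, mul_assoc, ← pow_add] at h6
          exact (Ideal.mul_unit_mem_iff_mem _ (hu.pow _)).1 h6 }
  exact ⟨J, hfix⟩

end Groth.Agent.ObsLiftLib
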