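import Groth.Agent.ObsLiftLib.Local
import Groth.Agent.ObsLiftLib.IdealBasis

/-! Compatible local lifts glue to a deformation. -/

set_option autoImplicit false
set_option backward.isDefEq.respectTransparency false
set_option backward.isDefEq.respectTransparency.types false
set_option linter.style.haveILetI false

universe u

open CategoryTheory CategoryTheory.Limits AlgebraicGeometry TopologicalSpace Opposite ArtFun ArtFun.Art
open scoped TensorProduct

noncomputable section

namespace Groth.Agent.ObsLiftLib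

open LocHilbGlueLib TanHilbLib

variable {k : Type u} [Field k] {Y Z : Scheme.{u}} (y : Y ⟶ specPt k) (i : Z ⟶ Y)

/-- The chart of an affine open of the thickening. -/
def chartC (C : Art k k) (W : (XA y C).affineOpens) : Y.affineOpens :=
  ⟨XAincl y C ⁻¹ᵁ W.1, W.2.preimage (XAincl y C)⟩

theorem chartC_UA (C : Art k k) (V : Y.affineOpens) :
    (chartC y C ⟨_, isAffineOpen_UA y C V.2⟩).1 = V.1 := by
  show XAincl y C ⁻¹ᵁ (pullback.fst y (specOver C) ⁻¹ᵁ V.1) = V.1
  rw [← Scheme.Hom.comp_preimage, XAincl_fst]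
  rfl

/-- Coordinates on part of the thickening. -/
def coordC (C : Art k k) (V : Y.affineOpens) {W : (XA y C).Opens} (hW : W ≤ UA y C V.1) :
    letI := algV y V.1
    CommRingCat.of (C ⊗[k] Γ(Y, V.1)) ⟶ Γ(XA y C, W) :=
  theta y C V.2 ≫ (XA y C).presheaf.map (homOfLE hW).op

theorem map_coordC (C : Art k k) {V V' : Y.affineOpens} (hle : V'.1 ≤ V.1) {W : (XA y C).Opens}
    (hW : W ≤ UA y C V'.1) :
    letI := algV y V.1; letI := algV y V'.1
    ∀ K : Ideal (C ⊗[k] Γ(Y, V.1)),
      (K.map (resT y C hle)).map (coordC y C V' hW).hom = K.map (coordC y C V (hW.trans (UA_mono y C hle))).hom := by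
  letI := algV y V.1; letI := algV y V'.1
  intro K
  refine (Ideal.map_map (resT y C hle).toRingHom (coordC y C V' hW).hom).trans ?_
  refine congrArg (fun f : CommRingCat.of (C ⊗[k] Γ(Y, V.1)) ⟶ Γ(XA y C, W) => K.map f.hom)
    (?_ : CommRingCat.ofHom (resT y C hle).toRingHom ≫ coordC y C V' hW = _)
  rw [coordC, coordC, ← Category.assoc, ← theta_res y C V.2 V'.2 hle, Category.assoc, ← Functor.map_comp]
  rfl

theorem map_coordC_res (C : Art k k) (V : Y.affineOpens) {W W' : (XA y C).Opens} (hW : W ≤ UA y C V.1) (hle : W' ≤ W) :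
    letI := algV y V.1
    ∀ K : Ideal (C ⊗[k] Γ(Y, V.1)),
      (K.map (coordC y C V hW).hom).map ((XA y C).presheaf.map (homOfLE hle).op).hom =
        K.map (coordC y C V (hle.trans hW)).hom := by
  letI := algV y V.1
  intro K
  rw [Ideal.map_map, ← CommRingCat.hom_comp, coordC, coordC, Category.assoc, ← Functor.map_comp]
  rfl

variable {A' A : Art k k} {p : A' ⟶ A} {e : Small p} {s : (localHilb Y y i.ker).obj A}
variable {ι : Type u} (V : ι → Y.affineOpens) (hV : ∀ z : Y, ∃ j, z ∈ (V j).1)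

/-- An affine open in a member of the cover. -/
abbrev InCov (U : Y.affineOpens) : Prop := ∃ j, U.1 ≤ (V j).1

include hV in
theorem iSup_inCov : ⨆ U : {U : Y.affineOpens // InCov V U}, U.1.1 = (⊤ : Y.Opens) := by
  refine eq_top_iff.mpr fun z _ => ?_
  obtain ⟨j, hj⟩ := hV z
  exact Opens.mem_iSup.mpr ⟨⟨V j, j, le_rfl⟩, hj⟩

include hV in
theorem flatOver_of_inCov (C : Art k k) (I : (XA y C).IdealSheafData)
    (h : ∀ U : Y.affineOpens, InCov V U →
      letI := algV y U.1
      Module.Flat C ((C ⊗[k] Γ(Y, U.1)) ⧸ JV y C U.2 I)) : FlatOver Y y C I := by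
  have hcov : ⨆ U : {U : Y.affineOpens // InCov V U}, I.subschemeι ⁻¹ᵁ UA y C U.1.1 = ⊤ := by
    refine eq_top_iff.mpr fun z _ => ?_
    obtain ⟨U, hU⟩ := Opens.mem_iSup.mp ((iSup_inCov V hV).ge (Set.mem_univ
      (pullback.fst y (specOver C) (I.subschemeι z)) : pullback.fst y (specOver C) (I.subschemeι z) ∈ (⊤ : Y.Opens)))
    exact Opens.mem_iSup.mpr ⟨U, hU⟩
  unfold FlatOver
  rw [IsZariskiLocalAtSource.iff_of_iSup_eq_top (P := @Flat) _ hcov]
  exact fun U => (flat_piece_iff y C U.1.2 I).2 (h U.1 U.2)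

include hV in
theorem ext_inCov (C : Art k k) {I J : (XA y C).IdealSheafData}
    (h : ∀ U : Y.affineOpens, InCov V U → JV y C U.2 I = JV y C U.2 J) : I = J := by
  refine Scheme.IdealSheafData.ext_of_iSup_eq_top
    (fun U : {U : Y.affineOpens // InCov V U} => (⟨UA y C U.1.1, isAffineOpen_UA y C U.1.2⟩ : (XA y C).affineOpens))
    (eq_top_iff.mpr fun z _ => ?_) fun U => ?_
  · obtain ⟨U, hU⟩ := Opens.mem_iSup.mp ((iSup_inCov V hV).ge (Set.mem_univ
      (pullback.fst y (specOver C) z) : pullback.fst y (specOver C) z ∈ (⊤ : Y.Opens)))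
    exact Opens.mem_iSup.mpr ⟨U, hU⟩
  · rw [← map_JV y C U.1.2 I, ← map_JV y C U.1.2 J, h U.1 U.2]

variable {y i}

include hV in
/-- Compatible lifts on a cover define a lift. -/
theorem exists_of_compat (K : ∀ j, Lift y i e s (V j))
    (hK : ∀ (a b : ι) (U : Y.affineOpens) (ha : U.1 ≤ (V a).1) (hb : U.1 ≤ (V b).1),
      (K a).res ha = (K b).res hb) :
    ∃ s' : (localHilb Y y i.ker).obj A', (localHilb Y y i.ker).map p s' = s := by
  let P : (XA y A').affineOpens → Prop := fun W => InCov V (chartC y A' W)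
  let L : ∀ W : (XA y A').affineOpens, P W → Ideal Γ(XA y A', W.1) := fun W h =>
    letI := algV y (chartC y A' W).1
    ((K h.choose).res h.choose_spec).ideal.map
      (coordC y A' (chartC y A' W) (UA_preimage_XAincl y A' W.1).ge).hom
  have hmono : ∀ W W' : (XA y A').affineOpens, P W → (W' : (XA y A').Opens) ≤ W → P W' := fun W W' ⟨j, hj⟩ hle =>
    ⟨j, ((XAincl y A').preimage_mono hle).trans hj⟩
  obtain ⟨J, hJ⟩ := exists_glue (L := L) hmono (fun W W' h h' hle => by
    have hc : (chartC y A' W').1 ≤ (chartC y A' W).1 := (XAincl y A').preimage_mono hle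
    rw [map_coordC_res]
    refine (map_coordC y A' hc (UA_preimage_XAincl y A' W'.1).ge _).symm.trans ?_
    show Ideal.map _ (((K h.choose).res h.choose_spec).res hc).ideal = _
    rw [Lift.res_res, hK h.choose h'.choose _ (hc.trans h.choose_spec) h'.choose_spec]) (fun W z hz => by
    obtain ⟨j, hj⟩ := hV (pullback.fst y (specOver A') z)
    have hz' : pullback.fst y (specOver A') z ∈ (chartC y A' W).1 := by
      rw [← UA_preimage_XAincl y A' W.1] at hz
      exact hz
    obtain ⟨U, hU, hzU, hle⟩ := exists_isAffineOpen_mem_and_subset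
      (show pullback.fst y (specOver A') z ∈ (chartC y A' W).1 ⊓ (V j).1 from ⟨hz', hj⟩)
    refine ⟨⟨_, isAffineOpen_UA y A' hU⟩, ⟨j, ?_⟩, ?_, hzU⟩
    · rw [chartC_UA y A' ⟨U, hU⟩]
      exact fun w hw => (hle hw).2
    · show UA y A' U ≤ W.1
      rw [← UA_preimage_XAincl y A' W.1]
      exact UA_mono y A' fun w hw => (hle hw).1)
  have hJV : ∀ (U : Y.affineOpens) (j : ι) (h : U.1 ≤ (V j).1), JV y A' U.2 J = ((K j).res h).ideal := by
    intro U j h
    letI := algV y U.1
    let W : (XA y A').affineOpens := ⟨_, isAffineOpen_UA y A' U.2⟩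
    have hc : (chartC y A' W).1 = U.1 := chartC_UA y A' U
    have hP : P W := ⟨j, hc.le.trans h⟩
    show (J.ideal W).comap _ = _
    rw [hJ W hP]
    show Ideal.comap _ (Ideal.map _ ((K hP.choose).res hP.choose_spec).ideal) = _
    rw [hK hP.choose j _ hP.choose_spec (hc.le.trans h), ← Lift.res_res (K j) h hc.le]
    show Ideal.comap _ (Ideal.map _ (Ideal.map (resT y A' hc.le) ((K j).res h).ideal)) = _
    rw [map_coordC]
    have e2 : coordC y A' U ((UA_preimage_XAincl y A' W.1).ge.trans (UA_mono y A' hc.le)) = theta y A' U.2 :=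
      (congrArg (_ ≫ ·) ((XA y A').presheaf.map_id _)).trans (Category.comp_id _)
    rw [e2, Ideal.comap_map_of_bijective _ (theta_bijective y A' U.2)]
  have hmap : J.comap (XAmap y p) = s.1 := ext_inCov y V hV A fun U ⟨j, hj⟩ => by
    letI := algV y U.1
    rw [JV_comap, hJV U j hj]
    exact ((K j).res hj).isLift.map
  refine ⟨⟨J, flatOver_of_inCov y V hV A' J fun U ⟨j, hj⟩ => ?_, ?_⟩, Subtype.ext hmap⟩
  · letI := algV y U.1
    haveI := flat_JV (y := y) (i := i) (s := s) U
    rw [hJV U j hj]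
    exact ((K j).res hj).isLift.flat
  · rw [← XAincl_XAmap y p, Scheme.IdealSheafData.comap_comp, hmap]
    exact s.2.2

end Groth.Agent.ObsLiftLib
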