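import Groth.Agent.TanHilbLib.Surj
import Groth.Agent.ObsLiftLib.Alg

/-! Local lifts of a deformation and their differences. -/

set_option autoImplicit false
set_option backward.isDefEq.respectTransparency false
set_option backward.isDefEq.respectTransparency.types false
set_option linter.style.haveILetI false

universe u

open CategoryTheory CategoryTheory.Limits AlgebraicGeometry TopologicalSpace Opposite ArtFun ArtFun.Art
open scoped TensorProduct

noncomputable section

namespace Groth.Agent.ObsLiftLib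

open LocHilbGlueLib TanHilbLib

variable {k : Type u} [Field k] {Y Z : Scheme.{u}} (y : Y ⟶ specPt k) (i : Z ⟶ Y)

theorem flat_resT (C : Art k k) {V V' : Y.Opens} (hV : IsAffineOpen V) (hV' : IsAffineOpen V') (hle : V' ≤ V) :
    letI := algV y V; letI := algV y V'
    (resT y C hle).toRingHom.Flat := by
  letI := algV y V; letI := algV y V'
  have h : ((XA y C).presheaf.map (homOfLE (UA_mono y C hle)).op).hom.Flat := by
    have h1 := Scheme.Hom.flat_appLE (𝟙 (XA y C)) (isAffineOpen_UA y C hV) (isAffineOpen_UA y C hV') (UA_mono y C hle)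
    simpa [Scheme.Hom.appLE] using h1
  have e : CommRingCat.ofHom (resT y C hle).toRingHom =
      theta y C hV ≫ (XA y C).presheaf.map (homOfLE (UA_mono y C hle)).op ≫ inv (theta y C hV') := by
    rw [← Category.assoc, theta_res y C hV hV' hle, Category.assoc, IsIso.hom_inv_id, Category.comp_id]
  show (CommRingCat.ofHom (resT y C hle).toRingHom).hom.Flat
  rw [e, CommRingCat.hom_comp, CommRingCat.hom_comp]
  exact RingHom.Flat.comp (RingHom.Flat.of_bijective (theta_bijective y C hV))
    (RingHom.Flat.comp h (RingHom.Flat.of_bijective (ConcreteCategory.bijective_of_isIso (inv (theta y C hV')))))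

theorem map_resT_JV (C : Art k k) {V V' : Y.Opens} (hV : IsAffineOpen V) (hV' : IsAffineOpen V') (hle : V' ≤ V)
    (I : (XA y C).IdealSheafData) :
    letI := algV y V; letI := algV y V'
    (JV y C hV I).map (resT y C hle) = JV y C hV' I := by
  letI := algV y V; letI := algV y V'
  have h : ((JV y C hV I).map (resT y C hle)).map (theta y C hV').hom = (JV y C hV' I).map (theta y C hV').hom := by
    show (Ideal.map (resT y C hle).toRingHom (JV y C hV I)).map (theta y C hV').hom = _
    rw [map_JV, Ideal.map_map, show (theta y C hV').hom.comp (resT y C hle).toRingHom =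
      (theta y C hV ≫ (XA y C).presheaf.map (homOfLE (UA_mono y C hle)).op).hom from
        (congrArg CommRingCat.Hom.hom (theta_res y C hV hV' hle)).symm, CommRingCat.hom_comp, ← Ideal.map_map, map_JV]
    exact I.map_ideal (U := ⟨_, isAffineOpen_UA y C hV'⟩) (V := ⟨_, isAffineOpen_UA y C hV⟩) (UA_mono y C hle)
  have h' := congrArg (Ideal.comap (theta y C hV').hom) h
  rwa [Ideal.comap_map_of_bijective _ (theta_bijective y C hV'),
    Ideal.comap_map_of_bijective _ (theta_bijective y C hV')] at h'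

variable {A' A : Art k k} {p : A' ⟶ A} (e : Small p) (s : (localHilb Y y i.ker).obj A)

/-- A lift of the deformation over an affine open. -/
structure Lift (V : Y.affineOpens) : Type u where
  ideal : letI := algV y V.1; Ideal (A' ⊗[k] Γ(Y, V.1))
  isLift : letI := algV y V.1; IsLift e (JV y A V.2 s.1) ideal

variable {y i e s}

theorem flat_JV (V : Y.affineOpens) :
    letI := algV y V.1
    Fact (Module.Flat A ((A ⊗[k] Γ(Y, V.1)) ⧸ JV y A V.2 s.1)) :=
  ⟨(flatOver_iff y A s.1).1 s.2.1 V.1 V.2⟩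

@[ext]
theorem Lift.ext' {V : Y.affineOpens} {L L' : Lift y i e s V} (h : L.ideal = L'.ideal) : L = L' := by
  cases L; cases L'; congr

/-- Restriction of a lift. -/
def Lift.res {V V' : Y.affineOpens} (L : Lift y i e s V) (hle : V'.1 ≤ V.1) : Lift y i e s V' :=
  letI := algV y V.1; letI := algV y V'.1
  ⟨L.ideal.map (resT y A' hle), map_resT_JV y A V.2 V'.2 hle s.1 ▸
    L.isLift.mapR (resA y hle) (flat_resT y A' V.2 V'.2 hle)⟩

theorem Lift.res_res {V V' V'' : Y.affineOpens} (L : Lift y i e s V) (hle : V'.1 ≤ V.1) (hle' : V''.1 ≤ V'.1) :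
    (L.res hle).res hle' = L.res (hle'.trans hle) := by
  letI := algV y V.1; letI := algV y V'.1; letI := algV y V''.1
  refine Lift.ext' ?_
  show (L.ideal.map (resT y A' hle)).map (resT y A' hle') = L.ideal.map (resT y A' (hle'.trans hle))
  rw [Ideal.map_mapₐ]
  refine congrArg (fun g : A' ⊗[k] Γ(Y, V.1) →ₐ[k] A' ⊗[k] Γ(Y, V''.1) => L.ideal.map g) (AlgHom.ext fun w => ?_)
  induction w using TensorProduct.induction_on with
  | zero => simp
  | tmul a r =>
    show resT y A' hle' (resT y A' hle (a ⊗ₜ r)) = _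
    rw [resT_tmul, resT_tmul, resT_tmul]
    congr 1
    exact congrArg (fun g : Γ(Y, V.1) ⟶ Γ(Y, V''.1) => g r) (Y.presheaf.map_comp _ _).symm
  | add a b ha hb => simp only [map_add, ha, hb]

theorem Lift.res_self {V : Y.affineOpens} (L : Lift y i e s V) : L.res le_rfl = L := by
  letI := algV y V.1
  refine Lift.ext' ?_
  show L.ideal.map (resT y A' le_rfl) = L.ideal
  rw [show resT y A' (le_refl V.1) = AlgHom.id k _ from AlgHom.ext fun w => ?_]
  · exact Ideal.map_id _
  induction w using TensorProduct.induction_on with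
  | zero => simp
  | tmul a r =>
    rw [resT_tmul]
    show a ⊗ₜ _ = a ⊗ₜ r
    congr 1
    exact congrArg (fun g : Γ(Y, V.1) ⟶ Γ(Y, V.1) => g r) (Y.presheaf.map_id _)
  | add a b ha hb => simp only [map_add, ha, hb]

variable [IsClosedImmersion i]

variable {V : Y.affineOpens}

theorem map_l0_V :
    letI := algV y V.1
    (JV y A V.2 s.1).map (l0 Γ(Y, V.1) A) = RingHom.ker (i.app V.1).hom :=
  TanHilbLib.map_l0_eq y i A s V.2

theorem idealSect_mem (m : Γ(ClSub.idealMod i.ker, V.1)) :
    letI := algV y V.1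
    OmegaSh.idealSect i.ker V.1 m ∈ (JV y A V.2 s.1).map (l0 Γ(Y, V.1) A) := by
  rw [map_l0_V]
  exact ConormalLib.app_idealSect i V.1 m

theorem app_eq_of_sub_mem {c d : Γ(Y, V.1)}
    (h : letI := algV y V.1; c - d ∈ (JV y A V.2 s.1).map (l0 Γ(Y, V.1) A)) : i.app V.1 c = i.app V.1 d := by
  rw [map_l0_V, RingHom.mem_ker] at h
  exact sub_eq_zero.1 ((map_sub _ c d).symm.trans h)

/-- `h` is the difference of two lifts. -/
def IsDiff (L L' : Lift y i e s V) (h : Γ(normal i, i ⁻¹ᵁ V.1)) : Prop :=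
  letI := algV y V.1
  ∀ (m : Γ(ClSub.idealMod i.ker, V.1)) (c : Γ(Y, V.1)),
    Rel e L.ideal L'.ideal (OmegaSh.idealSect i.ker V.1 m) c → val i h m = i.app V.1 c

theorem exists_isDiff (L L' : Lift y i e s V) : ∃ h, IsDiff L L' h := by
  letI := algV y V.1
  haveI := flat_JV (y := y) (i := i) (s := s) V
  choose C hC using fun m => exists_rel L.isLift L'.isLift (idealSect_mem (s := s) m)
  have hu : ∀ m c, Rel e L.ideal L'.ideal (OmegaSh.idealSect i.ker V.1 m) c → i.app V.1 c = i.app V.1 (C m) :=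
    fun m c hc => app_eq_of_sub_mem (rel_unique L.isLift L'.isLift hc (hC m))
  let f : Γ(ClSub.idealMod i.ker, V.1) →+ Γ(Z, i ⁻¹ᵁ V.1) :=
    AddMonoidHom.mk' (fun m => i.app V.1 (C m)) fun m m' => by
      rw [← hu (m + m') (C m + C m') (by rw [map_add]; exact rel_add (hC m) (hC m')), map_add]
  obtain ⟨h, hh⟩ := exists_val i V.2 f
    (fun r m => by
      show i.app V.1 _ = i.app V.1 r * i.app V.1 (C m)
      rw [← hu (r • m) (r * C m) (by rw [OmegaAffLib.idealSect_smul]; exact rel_mul_left r (hC m)), map_mul])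
    (fun m hm => by
      rw [← map_l0_V (s := s)] at hm
      have := rel_sq L.isLift L'.isLift hm (hC m)
      rw [map_l0_V] at this
      exact this)
  exact ⟨h, fun m c hc => (hh m).trans (hu m c hc).symm⟩

/-- The difference of two lifts. -/
def diff (L L' : Lift y i e s V) : Γ(normal i, i ⁻¹ᵁ V.1) := (exists_isDiff L L').choose

theorem isDiff_diff (L L' : Lift y i e s V) : IsDiff L L' (diff L L') := (exists_isDiff L L').choose_spec

theorem diff_eq {L L' : Lift y i e s V} {h : Γ(normal i, i ⁻¹ᵁ V.1)}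
    (H : letI := algV y V.1; ∀ m, ∃ c, Rel e L.ideal L'.ideal (OmegaSh.idealSect i.ker V.1 m) c ∧
      val i h m = i.app V.1 c) : diff L L' = h := by
  refine val_ext i V.2 fun m => ?_
  obtain ⟨c, hc, hv⟩ := H m
  rw [hv, isDiff_diff L L' m c hc]

theorem diff_add (L L' L'' : Lift y i e s V) : diff L L' + diff L' L'' = diff L L'' := by
  letI := algV y V.1
  haveI := flat_JV (y := y) (i := i) (s := s) V
  refine (diff_eq fun m => ?_).symm
  obtain ⟨c, hc⟩ := exists_rel L.isLift L'.isLift (idealSect_mem (s := s) m)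
  obtain ⟨d, hd⟩ := exists_rel L'.isLift L''.isLift (idealSect_mem (s := s) m)
  obtain ⟨f, hf, hfe⟩ := rel_trans L'.isLift L''.isLift hc hd
  refine ⟨f, hf, ?_⟩
  rw [val_add_left, isDiff_diff L L' m c hc, isDiff_diff L' L'' m d hd, app_eq_of_sub_mem hfe, map_add]

theorem diff_self (L : Lift y i e s V) : diff L L = 0 :=
  left_eq_add.1 (diff_add L L L).symm

theorem eq_of_diff_eq_zero {L L' : Lift y i e s V} (h : diff L L' = 0) : L = L' := by
  letI := algV y V.1
  haveI := flat_JV (y := y) (i := i) (s := s) V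
  refine Lift.ext' (eq_of_rel L.isLift L'.isLift fun a c hc => ?_)
  have ha : a ∈ (JV y A V.2 s.1).map (l0 Γ(Y, V.1) A) := by
    obtain ⟨w, hw, -, -, rfl, -⟩ := hc
    rw [← map_l0_eq L.isLift.map]
    exact Ideal.mem_map_of_mem _ hw
  rw [map_l0_V] at ha
  obtain ⟨m, rfl⟩ := ConormalLib.exists_idealSect_eq i V.1 a ha
  have h1 := isDiff_diff L L' m c hc
  rw [map_l0_V, RingHom.mem_ker, ← h1, h]
  haveI := hasHom (Omega.conormal i)
  have h2 := val_add_left i (0 : Γ(normal i, i ⁻¹ᵁ V.1)) 0 m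
  rw [add_zero] at h2
  exact left_eq_add.1 h2

theorem eq_of_diff_eq {L L' L'' : Lift y i e s V} (h : diff L L' = diff L L'') : L' = L'' :=
  eq_of_diff_eq_zero (add_eq_left.1 ((diff_add L L' L'').trans h.symm))

theorem diff_res {V' : Y.affineOpens} (L L' : Lift y i e s V) (hle : V'.1 ≤ V.1) :
    (normal i).presheaf.map (homOfLE (i.preimage_mono hle)).op (diff L L') = diff (L.res hle) (L'.res hle) := by
  letI := algV y V.1; letI := algV y V'.1
  haveI := hasHom (Omega.conormal i)
  refine normal_ext i V.2 (i.preimage_mono hle) fun m => ?_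
  obtain ⟨c, hc⟩ := exists_rel L.isLift L'.isLift (idealSect_mem (s := s) m)
  have hc' : Rel e (L.res hle).ideal (L'.res hle).ideal
      (OmegaSh.idealSect i.ker V'.1 ((ClSub.idealMod i.ker).presheaf.map (homOfLE hle).op m))
      (Y.presheaf.map (homOfLE hle).op c) := by
    rw [ConormalLib.idealSect_res]
    exact rel_mapR (resA y hle) hc
  have h2 : val i ((normal i).presheaf.map (homOfLE (i.preimage_mono hle)).op (diff L L'))
      ((ClSub.idealMod i.ker).presheaf.map (homOfLE hle).op m) =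
        Z.presheaf.map (homOfLE (i.preimage_mono hle)).op (i.app V.1 c) := by
    rw [val_res, isDiff_diff L L' m c hc]
  rw [cls_res i hle m]
  refine h2.trans (Eq.trans ?_ (isDiff_diff _ _ _ _ hc').symm)
  exact (congrArg (fun f : Γ(Y, V.1) ⟶ Γ(Z, i ⁻¹ᵁ V'.1) => f c) (i.naturality (homOfLE hle).op)).symm

/-- The relation defined by a normal vector. -/
def dRel (h : Γ(normal i, i ⁻¹ᵁ V.1)) (a c : Γ(Y, V.1)) : Prop :=
  ∃ m, OmegaSh.idealSect i.ker V.1 m = a ∧ val i h m = i.app V.1 c

theorem deriv_dRel (h : Γ(normal i, i ⁻¹ᵁ V.1)) :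
    letI := algV y V.1
    Deriv ((JV y A V.2 s.1).map (l0 Γ(Y, V.1) A)) (dRel h) := by
  letI := algV y V.1
  refine ⟨⟨0, map_zero _, by rw [val_zero_right, map_zero]⟩, ?_, ?_, fun a ha => ?_, ?_⟩
  · rintro _ _ c d ⟨m, rfl, hc⟩ ⟨m', rfl, hd⟩
    exact ⟨m + m', map_add _ _ _, by rw [val_add_right, hc, hd, map_add]⟩
  · rintro r _ c ⟨m, rfl, hc⟩
    exact ⟨r • m, OmegaAffLib.idealSect_smul i.ker V.1 r m, by rw [val_smul_right, hc, map_mul]⟩
  · rw [map_l0_V] at ha
    obtain ⟨m, rfl⟩ := ConormalLib.exists_idealSect_eq i V.1 a ha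
    obtain ⟨c, hc⟩ := (chart i V.2).2 (val i h m)
    exact ⟨c, m, rfl, hc.symm⟩
  · rintro c ⟨m, hm, hv⟩
    rw [map_l0_V, RingHom.mem_ker, ← hv,
      show m = 0 from OmegaAffLib.idealSect_injective i.ker V.1 (hm.trans (map_zero _).symm), val_zero_right]

/-- A lift moved by a normal vector. -/
def Lift.act (L : Lift y i e s V) (h : Γ(normal i, i ⁻¹ᵁ V.1)) : Lift y i e s V :=
  letI := algV y V.1
  ⟨ObsLiftLib.act (e := e) L.ideal (deriv_dRel (s := s) h), isLift_act (deriv_dRel (s := s) h) L.isLift⟩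

theorem diff_act (L : Lift y i e s V) (h : Γ(normal i, i ⁻¹ᵁ V.1)) : diff L (L.act h) = h := by
  letI := algV y V.1
  refine diff_eq fun m => ?_
  obtain ⟨c, hc⟩ := (chart i V.2).2 (val i h m)
  exact ⟨c, rel_act (deriv_dRel (s := s) h) L.isLift (idealSect_mem m) ⟨m, rfl, hc.symm⟩, hc.symm⟩

theorem act_res {V' : Y.affineOpens} (L : Lift y i e s V) (h : Γ(normal i, i ⁻¹ᵁ V.1)) (hle : V'.1 ≤ V.1) :
    (L.act h).res hle = (L.res hle).act ((normal i).presheaf.map (homOfLE (i.preimage_mono hle)).op h) :=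
  eq_of_diff_eq (L := L.res hle) (by rw [diff_act, ← diff_res, diff_act])

end Groth.Agent.ObsLiftLib
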