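import Groth.Agent.ObsLiftLib.Lci
import Groth.Agent.DeformLib.HilbertBurch

/-! Ideals of maximal minors have lifts along small extensions. -/

set_option autoImplicit false
set_option backward.isDefEq.respectTransparency false
set_option backward.isDefEq.respectTransparency.types false
set_option linter.style.haveILetI false

universe u

open CategoryTheory AlgebraicGeometry ArtFun ArtFun.Art IsLocalRing
open scoped TensorProduct

noncomputable section

namespace Groth.Agent.ObsLiftLib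

open LocHilbGlueLib TanHilbLib

variable {k : Type u} [Field k] {R : Type u} [CommRing R] [Algebra k R]

theorem mem_maximalIdeal_map_iff (C : Art k k) (z : C ⊗[k] R) :
    z ∈ (maximalIdeal C).map (algebraMap C (C ⊗[k] R)) ↔ l0 R C z = 0 := by
  rw [map_maximalIdeal_eq]
  exact RingHom.mem_ker

/-- A regular pair of the closed fibre lifts. -/
theorem regular_pair_of_fibre (C : Art k k) {x₀ y₀ : R} (hx₀ : x₀ ∈ nonZeroDivisors R)
    (hy₀ : ∀ z, y₀ * z ∈ Ideal.span {x₀} → z ∈ Ideal.span {x₀}) {x y : C ⊗[k] R}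
    (hx : l0 R C x = x₀) (hy : l0 R C y = y₀) :
    x ∈ nonZeroDivisors (C ⊗[k] R) ∧ (∀ z, y * z ∈ Ideal.span {x} → z ∈ Ideal.span {x}) ∧
      ∀ z, z * x ∈ RingHom.ker (l0 R C).toRingHom → z ∈ RingHom.ker (l0 R C).toRingHom := by
  have h0 : ∀ z, z * x ∈ (maximalIdeal C).map (algebraMap C (C ⊗[k] R)) →
      z ∈ (maximalIdeal C).map (algebraMap C (C ⊗[k] R)) := fun z hz => by
    rw [mem_maximalIdeal_map_iff, map_mul, hx] at hz
    rw [mem_maximalIdeal_map_iff]
    exact (mem_nonZeroDivisors_iff_right.1 hx₀) _ hz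
  obtain ⟨h1, h2, -⟩ := DeformLib.regular_pair_lift (ArtFunLib.isNilpotent_maximalIdeal C) x y h0 fun z hz => by
    obtain ⟨a, ha, b, hb, he⟩ := Submodule.mem_sup.1 hz
    obtain ⟨w, rfl⟩ := Ideal.mem_span_singleton'.1 hb
    have h3 : y₀ * l0 R C z ∈ Ideal.span {x₀} := by
      rw [Ideal.mem_span_singleton']
      refine ⟨l0 R C w, ?_⟩
      rw [← hy, ← map_mul, ← he, map_add, (mem_maximalIdeal_map_iff C a).1 ha, zero_add, map_mul, hx]
    obtain ⟨c, hc⟩ := Ideal.mem_span_singleton'.1 (hy₀ _ h3)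
    obtain ⟨c', rfl⟩ := l0_surjective (R := R) C c
    rw [← sub_add_cancel z (c' * x)]
    refine Submodule.add_mem_sup ?_ (Ideal.mul_mem_left _ _ (Ideal.mem_span_singleton_self x))
    rw [mem_maximalIdeal_map_iff, map_sub, map_mul, hx, hc, sub_self]
  exact ⟨h1, h2, fun z hz => (mem_maximalIdeal_map_iff C z).1 (h0 z ((mem_maximalIdeal_map_iff C _).2 hz))⟩

variable {A' A : Art k k} {p : A' ⟶ A} (e : Small p) {J : Ideal (A ⊗[k] R)}

/-- A flat deformation of an ideal of maximal minors with exact resolution lifts. -/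
theorem exists_isLift_of_minors (hJ : Module.Flat A ((A ⊗[k] R) ⧸ J)) {r : ℕ}
    (φ₀ : Matrix (Fin (r + 1)) (Fin r) R) (hJ₀ : J.map (l0 R A) = Ideal.span (Set.range (DeformLib.mnr φ₀)))
    (hinj : Function.Injective φ₀.mulVecLin)
    (hex : ∀ v, Fintype.linearCombination R (DeformLib.mnr φ₀) v = 0 → ∃ w, φ₀.mulVecLin w = v)
    (hpair : ∃ x₀ ∈ Ideal.span (Set.range (DeformLib.mnr φ₀)), ∃ y₀ ∈ Ideal.span (Set.range (DeformLib.mnr φ₀)),
      x₀ ∈ nonZeroDivisors R ∧ ∀ z, y₀ * z ∈ Ideal.span {x₀} → z ∈ Ideal.span {x₀}) :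
    ∃ J', IsLift e J J' := by
  let 𝔫 : Ideal (A ⊗[k] R) := RingHom.ker (l0 R A).toRingHom
  let g : R →+* (A ⊗[k] R) ⧸ 𝔫 :=
    (Ideal.Quotient.mk 𝔫).comp (Algebra.TensorProduct.includeRight : R →ₐ[k] A ⊗[k] R).toRingHom
  let h : (A ⊗[k] R) ⧸ 𝔫 →+* R := Ideal.Quotient.lift 𝔫 (l0 R A).toRingHom fun a ha => ha
  have hg : ∀ z, g (l0 R A z) = Ideal.Quotient.mk 𝔫 z := fun z =>
    Ideal.Quotient.eq.2 (RingHom.mem_ker.2 (by
      show l0 R A (1 ⊗ₜ l0 R A z - z) = 0
      rw [map_sub, l0_tmul, map_one, one_smul, sub_self]))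
  have hhg : ∀ r, h (g r) = r := fun r => by
    show l0 R A (1 ⊗ₜ r) = r
    rw [l0_tmul, map_one, one_smul]
  have hmnr : Ideal.span (Set.range (DeformLib.mnr (φ₀.map g))) =
      (Ideal.span (Set.range (DeformLib.mnr φ₀))).map g := by
    rw [Ideal.map_span, ← Set.range_comp]
    congr 2
    funext i
    exact DeformLib.mnr_map g φ₀ i
  obtain ⟨φ, hφ, hJφ⟩ := DeformLib.exists_lift_minors 𝔫 (isNilpotent_ker_l0 A) J (fun z hz hzn => by
      haveI : Module.Flat A ((A ⊗[k] R) ⧸ J.restrictScalars A) := hJ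
      have hm := HilbObsLib.mem_smul_of_flat (J.restrictScalars A) (maximalIdeal A)
        (x := z) hz (mem_smul_of_l0_eq_zero (RingHom.mem_ker.1 hzn))
      refine Submodule.smul_induction_on hm (fun b hb w hw => ?_) (fun a b ha hb => add_mem ha hb)
      rw [Algebra.smul_def]
      exact Ideal.mul_mem_mul (RingHom.mem_ker.2 ((mem_maximalIdeal_map_iff A _).1 (Ideal.mem_map_of_mem _ hb))) hw)
    (φ₀.map g) (by
      rw [hmnr, ← hJ₀]
      show _ = Ideal.map g (Ideal.map (l0 R A).toRingHom J)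
      rw [Ideal.map_map]
      exact congrArg (fun f : A ⊗[k] R →+* _ => J.map f) (RingHom.ext fun z => (hg z).symm)) (by
      obtain ⟨x₀, hx₀, y₀, hy₀, hn, hr⟩ := hpair
      refine ⟨g x₀, hmnr ▸ Ideal.mem_map_of_mem g hx₀, g y₀, hmnr ▸ Ideal.mem_map_of_mem g hy₀, fun x y hx hy => ?_⟩
      refine regular_pair_of_fibre A hn hr ?_ ?_
      · exact (congrArg h hx).trans (hhg x₀)
      · exact (congrArg h hy).trans (hhg y₀))
  choose f hf using fun z : A ⊗[k] R => tmap_surjective p.toAlgHom e.surj z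
  let φ' := φ.map f
  have h1 : φ'.map (tmap R p.toAlgHom).toRingHom = φ := Matrix.ext fun i j => hf _
  have h2 : φ'.map (l0 R A').toRingHom = φ₀ := Matrix.ext fun i j => by
    show l0 R A' (f (φ i j)) = φ₀ i j
    rw [← l0_tmap p (f (φ i j)), hf]
    exact (congrArg h (congrFun (congrFun hφ i) j)).trans (hhg _)
  obtain ⟨ha, hb⟩ := DeformLib.fibre_pullback (l0 R A').toRingHom (l0_surjective A')
    ((maximalIdeal A').map (algebraMap A' (A' ⊗[k] R))) ⊥
    (fun z => by rw [mem_maximalIdeal_map_iff, Ideal.mem_bot]; rfl) φ'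
    (by
      rw [h2]
      intro x hx j
      have : x = 0 := hinj (Eq.trans (funext fun i => Ideal.mem_bot.1 (hx i)) (map_zero _).symm)
      rw [this]
      exact zero_mem _)
    (by
      rw [h2]
      intro v hv
      obtain ⟨w, hw⟩ := hex v (Ideal.mem_bot.1 hv)
      exact ⟨w, fun i => by rw [hw, sub_self]; exact zero_mem _⟩)
  obtain ⟨-, -, hflat⟩ := DeformLib.resolution_of_fibre (R := A') (ArtFunLib.isNilpotent_maximalIdeal A') φ' ha hb
  refine ⟨Ideal.span (Set.range (DeformLib.mnr φ')), isLift_of_flat ?_ hflat⟩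
  show Ideal.map (tmap R p.toAlgHom).toRingHom _ = J
  rw [Ideal.map_span, ← Set.range_comp, hJφ]
  congr 2
  funext i
  exact (DeformLib.mnr_map _ φ' i).symm.trans (by rw [h1])

end Groth.Agent.ObsLiftLib
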